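import Mathlib.GroupTheory.GroupAction.MultipleTransitivity
import Mathlib.Combinatorics.Enumerative.DoubleCounting
import Mathlib.Data.Fintype.Prod
import Mathlib.Tactic

/-!
# Two orbits of the pair stabiliser with a prime number of points: a linear space
-/

set_option autoImplicit false

open scoped Classical

namespace CfsgLib.TwinPrime

variable {α : Type*} [Fintype α] {G : Subgroup (Equiv.Perm α)}

/-- A ternary relation which is one orbit of `G` on triples of distinct points. -/
structure TripleOrbit (G : Subgroup (Equiv.Perm α)) (R : α → α → α → Prop) : Prop where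
  ne : ∀ {a b c}, R a b c → a ≠ b ∧ a ≠ c ∧ b ≠ c
  inv : ∀ {g : Equiv.Perm α}, g ∈ G → ∀ {a b c}, R a b c → R (g a) (g b) (g c)
  hom : ∀ {a b c a' b' c'}, R a b c → R a' b' c' → ∃ g ∈ G, g a = a' ∧ g b = b' ∧ g c = c'

namespace TripleOrbit

variable {R : α → α → α → Prop} (hR : TripleOrbit G R)

include hR

theorem inv_iff {g : Equiv.Perm α} (hg : g ∈ G) (a b c : α) :
    R (g a) (g b) (g c) ↔ R a b c :=
  ⟨fun h => by simpa using hR.inv (G.inv_mem hg) h, hR.inv hg⟩

/-- The third points over a moved pair. -/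
theorem card_section (h2 : ∀ {a b a' b' : α}, a ≠ b → a' ≠ b' → ∃ g ∈ G, g a = a' ∧ g b = b')
    {a b a' b' : α} (hab : a ≠ b) (hab' : a' ≠ b') :
    (Finset.univ.filter (R a b)).card = (Finset.univ.filter (R a' b')).card := by
  obtain ⟨g, hg, ha, hb⟩ := h2 hab hab'
  refine Finset.card_equiv g fun c => ?_
  simp only [Finset.mem_filter, Finset.mem_univ, true_and]
  rw [← ha, ← hb, hR.inv_iff hg]

end TripleOrbit

/-- The triples of a relation. -/
noncomputable def triples (R : α → α → α → Prop) : Finset (α × α × α) :=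
  Finset.univ.filter fun t => R t.1 t.2.1 t.2.2

theorem card_triples {R : α → α → α → Prop} (hR : TripleOrbit G R)
    (h2 : ∀ {a b a' b' : α}, a ≠ b → a' ≠ b' → ∃ g ∈ G, g a = a' ∧ g b = b') {a₀ b₀ : α}
    (h₀ : a₀ ≠ b₀) :
    (triples R).card = (Finset.univ : Finset α).offDiag.card * (Finset.univ.filter (R a₀ b₀)).card := by
  rw [Finset.card_eq_sum_card_fiberwise (f := fun t : α × α × α => (t.1, t.2.1))
    (t := (Finset.univ : Finset α).offDiag) (fun t ht => by
      simp only [triples, Finset.coe_filter, Finset.mem_univ, true_and, Set.mem_ofPred_eq] at ht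
      simpa [Finset.mem_offDiag] using (hR.ne ht).1)]
  refine Finset.sum_const_nat fun ab hab => ?_
  rw [Finset.mem_offDiag] at hab
  rw [← hR.card_section h2 hab.2.2 h₀]
  refine Finset.card_nbij (fun t => t.2.2) ?_ ?_ ?_
  · intro t ht
    simp only [triples, Finset.coe_filter, Finset.mem_filter, Finset.mem_univ, true_and, Set.mem_ofPred_eq,
      Prod.ext_iff] at ht ⊢
    rw [← ht.2.1, ← ht.2.2]; exact ht.1
  · intro t ht t' ht' h
    simp only [triples, Finset.coe_filter, Finset.mem_filter, Finset.mem_univ, true_and, Set.mem_ofPred_eq,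
      Prod.ext_iff] at ht ht'
    exact Prod.ext (ht.2.1.trans ht'.2.1.symm) (Prod.ext (ht.2.2.trans ht'.2.2.symm) h)
  · intro c hc
    simp only [triples, Finset.coe_filter, Finset.mem_filter, Finset.mem_univ, true_and, Set.mem_ofPred_eq] at hc
    exact ⟨(ab.1, ab.2, c), by simp [triples, hc], rfl⟩

/-- A permutation of the coordinates preserves an orbit whose sections are not as large as those of
the other one. -/
theorem perm_coord {R R' : α → α → α → Prop} (hR : TripleOrbit G R) (hR' : TripleOrbit G R')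
    (hcover : ∀ {a b c}, a ≠ b → a ≠ c → b ≠ c → R a b c ∨ R' a b c)
    (hcard : (triples R).card ≠ (triples R').card) (f : Equiv.Perm (α × α × α))
    (hf : ∀ t, t.1 ≠ t.2.1 ∧ t.1 ≠ t.2.2 ∧ t.2.1 ≠ t.2.2 →
      (f t).1 ≠ (f t).2.1 ∧ (f t).1 ≠ (f t).2.2 ∧ (f t).2.1 ≠ (f t).2.2)
    (hcomm : ∀ (g : Equiv.Perm α) t,
      f (g t.1, g t.2.1, g t.2.2) = (g (f t).1, g (f t).2.1, g (f t).2.2))
    {t : α × α × α} (ht : R t.1 t.2.1 t.2.2) : R (f t).1 (f t).2.1 (f t).2.2 := by
  obtain ⟨hd1, hd2, hd3⟩ := hf t (hR.ne ht)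
  rcases hcover hd1 hd2 hd3 with h | h
  · exact h
  exfalso
  set I := (triples R).map f.toEmbedding
  have hall : I ⊆ triples R' := by
    intro s hs
    obtain ⟨u, hu, rfl⟩ := Finset.mem_map.1 hs
    simp only [triples, Finset.mem_filter, Finset.mem_univ, true_and, Equiv.coe_toEmbedding] at hu ⊢
    obtain ⟨g, hg, h1, h2, h3⟩ := hR.hom ht hu
    have e : f u = (g (f t).1, g (f t).2.1, g (f t).2.2) := by rw [← hcomm, h1, h2, h3]
    rw [e]
    exact hR'.inv hg h
  have hall' : triples R' ⊆ I := by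
    intro s hs
    simp only [triples, Finset.mem_filter, Finset.mem_univ, true_and] at hs
    obtain ⟨g, hg, h1, h2, h3⟩ := hR'.hom h hs
    refine Finset.mem_map.2 ⟨(g t.1, g t.2.1, g t.2.2), ?_, ?_⟩
    · simp only [triples, Finset.mem_filter, Finset.mem_univ, true_and]
      exact hR.inv hg ht
    · rw [Equiv.coe_toEmbedding, hcomm, h1, h2, h3]
  exact hcard ((Finset.card_map f.toEmbedding).symm.trans
    (congrArg Finset.card (Finset.Subset.antisymm hall hall')))

/-- A `G`-invariant linear space: collinearity of distinct points, transitive on triangles. -/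
structure Lines (G : Subgroup (Equiv.Perm α)) (R : α → α → α → Prop) : Prop where
  ne : ∀ {a b c}, R a b c → a ≠ b ∧ a ≠ c ∧ b ≠ c
  inv : ∀ {g : Equiv.Perm α}, g ∈ G → ∀ {a b c}, R a b c → R (g a) (g b) (g c)
  swap : ∀ {a b c}, R a b c → R b a c
  rot : ∀ {a b c}, R a b c → R a c b
  tri : ∀ {a b y z}, R a b y → R a b z → y ≠ z → R a y z
  exists_third : ∀ {a b}, a ≠ b → ∃ c, R a b c
  exists_off : ∀ {a b}, a ≠ b → ∃ c, c ≠ a ∧ c ≠ b ∧ ¬ R a b c
  homogeneous : ∀ {a b c c'}, a ≠ b → c ≠ a → c ≠ b → ¬ R a b c → c' ≠ a → c' ≠ b → ¬ R a b c' →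
    ∃ g ∈ G, g a = a ∧ g b = b ∧ g c = c'

/-- **Two suborbits of coprime length give a linear space.** -/
theorem exists_lines {R R' : α → α → α → Prop} (hR : TripleOrbit G R) (hR' : TripleOrbit G R')
    (h2 : ∀ {a b a' b' : α}, a ≠ b → a' ≠ b' → ∃ g ∈ G, g a = a' ∧ g b = b')
    (hcover : ∀ {a b c}, a ≠ b → a ≠ c → b ≠ c → R a b c ∨ R' a b c)
    (hexcl : ∀ {a b c}, R a b c → ¬ R' a b c)
    {a₀ b₀ : α} (h₀ : a₀ ≠ b₀) (hn : ∃ c, R a₀ b₀ c) (hn' : ∃ c, R' a₀ b₀ c)
    (hprime : (Fintype.card α - 2).Prime) (hodd : Odd (Fintype.card α - 2)) :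
    Lines G R ∨ Lines G R' := by
  set S : α → α → Finset α := fun a b => Finset.univ.filter (R a b) with hS
  set T : α → α → Finset α := fun a b => Finset.univ.filter (R' a b) with hT
  set L := (S a₀ b₀).card
  set l := (T a₀ b₀).card
  have hsum : L + l = Fintype.card α - 2 := by
    rw [← Finset.card_union_of_disjoint (Finset.disjoint_left.2 fun c hc hc' => by
      simp only [hS, hT, Finset.mem_filter, Finset.mem_univ, true_and] at hc hc'
      exact hexcl hc hc')]
    have e : S a₀ b₀ ∪ T a₀ b₀ = (Finset.univ.erase a₀).erase b₀ := by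
      ext c
      simp only [hS, hT, Finset.mem_union, Finset.mem_filter, Finset.mem_univ, true_and,
        Finset.mem_erase, and_true]
      constructor
      · rintro (h | h)
        · exact ⟨(hR.ne h).2.2.symm, (hR.ne h).2.1.symm⟩
        · exact ⟨(hR'.ne h).2.2.symm, (hR'.ne h).2.1.symm⟩
      · rintro ⟨h1, h2'⟩
        exact hcover h₀ (Ne.symm h2') (Ne.symm h1)
    rw [e, Finset.card_erase_of_mem (Finset.mem_erase.2 ⟨h₀.symm, Finset.mem_univ _⟩),
      Finset.card_erase_of_mem (Finset.mem_univ _), Finset.card_univ, Nat.sub_sub]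
  have hLpos : 0 < L := by
    obtain ⟨c, hc⟩ := hn
    exact Finset.card_pos.2 ⟨c, by simp [hS, hc]⟩
  have hlpos : 0 < l := by
    obtain ⟨c, hc⟩ := hn'
    exact Finset.card_pos.2 ⟨c, by simp [hT, hc]⟩
  have hcard : (triples R).card ≠ (triples R').card := by
    rw [card_triples hR h2 h₀, card_triples hR' h2 h₀]
    intro h
    have hpos : 0 < (Finset.univ : Finset α).offDiag.card :=
      Finset.card_pos.2 ⟨(a₀, b₀), by simp [h₀]⟩
    have h' : L = l := Nat.eq_of_mul_eq_mul_left hpos h
    obtain ⟨k, hk⟩ := hodd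
    omega
  have hcop : Nat.Coprime L l := by
    have : Nat.Coprime (L + l) l := by
      rw [hsum]
      exact (hprime.coprime_iff_not_dvd).2 fun h => by
        have := Nat.le_of_dvd hlpos h
        omega
    exact Nat.coprime_add_self_left.1 this
  -- symmetry
  let s12 : Equiv.Perm (α × α × α) :=
    { toFun := fun t => (t.2.1, t.1, t.2.2)
      invFun := fun t => (t.2.1, t.1, t.2.2)
      left_inv := fun _ => rfl
      right_inv := fun _ => rfl }
  let s23 : Equiv.Perm (α × α × α) :=
    { toFun := fun t => (t.1, t.2.2, t.2.1)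
      invFun := fun t => (t.1, t.2.2, t.2.1)
      left_inv := fun _ => rfl
      right_inv := fun _ => rfl }
  have swapR : ∀ {a b c}, R a b c → R b a c := fun {a b c} h =>
    perm_coord hR hR' hcover hcard s12 (fun t ht => ⟨ht.1.symm, ht.2.2, ht.2.1⟩)
      (fun _ _ => rfl) (t := (a, b, c)) h
  have rotR : ∀ {a b c}, R a b c → R a c b := fun {a b c} h =>
    perm_coord hR hR' hcover hcard s23 (fun t ht => ⟨ht.2.1, ht.1, ht.2.2.symm⟩)
      (fun _ _ => rfl) (t := (a, b, c)) h
  have hcover' : ∀ {a b c}, a ≠ b → a ≠ c → b ≠ c → R' a b c ∨ R a b c :=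
    fun h1 h2' h3 => (hcover h1 h2' h3).symm
  have swapR' : ∀ {a b c}, R' a b c → R' b a c := fun {a b c} h =>
    perm_coord hR' hR hcover' hcard.symm s12 (fun t ht => ⟨ht.1.symm, ht.2.2, ht.2.1⟩)
      (fun _ _ => rfl) (t := (a, b, c)) h
  have rotR' : ∀ {a b c}, R' a b c → R' a c b := fun {a b c} h =>
    perm_coord hR' hR hcover' hcard.symm s23 (fun t ht => ⟨ht.2.1, ht.1, ht.2.2.symm⟩)
      (fun _ _ => rfl) (t := (a, b, c)) h
  -- double counting
  have hμ : ∀ {a b z}, R' a b z → ((S a b).filter fun y => R a y z).card = 0 ∨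
      ((S a b).filter fun y => R a y z).card = L := by
    intro a b z hz
    have hab := (hR'.ne hz).1
    obtain ⟨y₀, hy₀⟩ : ∃ y, R a b y := by
      obtain ⟨c, hc⟩ := hn
      obtain ⟨g, hg, rfl, rfl⟩ := h2 h₀ hab
      exact ⟨g c, hR.inv hg hc⟩
    have hSL : (S a b).card = L := hR.card_section h2 hab h₀
    have hTl : (T a b).card = l := hR'.card_section h2 hab h₀
    have hβ : ∀ y ∈ S a b, ((T a b).filter fun w => R a y w).card =
        ((T a b).filter fun w => R a y₀ w).card := by
      intro y hy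
      simp only [hS, Finset.mem_filter, Finset.mem_univ, true_and] at hy
      obtain ⟨g, hg, ga, gb, gy⟩ := hR.hom hy hy₀
      refine Finset.card_equiv g fun w => ?_
      simp only [hT, Finset.mem_filter, Finset.mem_univ, true_and]
      rw [← hR'.inv_iff hg a b w, ← hR.inv_iff hg a y w, ga, gb, gy]
    have hμ' : ∀ w ∈ T a b, ((S a b).filter fun y => R a y w).card =
        ((S a b).filter fun y => R a y z).card := by
      intro w hw
      simp only [hT, Finset.mem_filter, Finset.mem_univ, true_and] at hw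
      obtain ⟨g, hg, ga, gb, gw⟩ := hR'.hom hw hz
      refine Finset.card_equiv g fun y => ?_
      simp only [hS, Finset.mem_filter, Finset.mem_univ, true_and]
      rw [← hR.inv_iff hg a b y, ← hR.inv_iff hg a y w, ga, gb, gw]
    have h := Finset.sum_card_bipartiteAbove_eq_sum_card_bipartiteBelow (fun y w => R a y w)
      (s := S a b) (t := T a b)
    simp only [Finset.bipartiteAbove, Finset.bipartiteBelow] at h
    rw [Finset.sum_const_nat hβ, Finset.sum_const_nat hμ', hSL, hTl] at h
    have hdvd : L ∣ ((S a b).filter fun y => R a y z).card :=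
      hcop.dvd_of_dvd_mul_left ⟨_, h.symm⟩
    have hle : ((S a b).filter fun y => R a y z).card ≤ L :=
      hSL ▸ Finset.card_filter_le _ _
    rcases Nat.eq_zero_or_pos ((S a b).filter fun y => R a y z).card with h0 | h0
    · exact Or.inl h0
    · exact Or.inr (le_antisymm hle (Nat.le_of_dvd h0 hdvd))
  have mk : ∀ {Q Q' : α → α → α → Prop}, TripleOrbit G Q → TripleOrbit G Q' →
      (∀ {a b c}, a ≠ b → a ≠ c → b ≠ c → Q a b c ∨ Q' a b c) →
      (∀ {a b c}, Q a b c → ¬ Q' a b c) → (∃ c, Q a₀ b₀ c) → (∃ c, Q' a₀ b₀ c) →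
      (∀ {a b c}, Q a b c → Q b a c) → (∀ {a b c}, Q a b c → Q a c b) →
      (∀ {a b y z}, Q a b y → Q a y z → b ≠ z → Q a b z) → Lines G Q := by
    intro Q Q' hQ hQ' hcov hex hnQ hnQ' hsw hrot hclo
    refine ⟨hQ.ne, hQ.inv, hsw, hrot, fun h h' hne => ?_, ?_, ?_, ?_⟩
    · exact hclo (hrot h) h' hne
    · intro a b hab
      obtain ⟨c, hc⟩ := hnQ
      obtain ⟨g, hg, rfl, rfl⟩ := h2 h₀ hab
      exact ⟨g c, hQ.inv hg hc⟩
    · intro a b hab
      obtain ⟨c, hc⟩ := hnQ'
      obtain ⟨g, hg, rfl, rfl⟩ := h2 h₀ hab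
      have := hQ'.inv hg hc
      exact ⟨g c, (hQ'.ne this).2.1.symm, (hQ'.ne this).2.2.symm, fun h => hex h this⟩
    · intro a b c c' hab hca hcb hc hca' hcb' hc'
      exact hQ'.hom ((hcov hab hca.symm hcb.symm).resolve_left hc)
        ((hcov hab hca'.symm hcb'.symm).resolve_left hc')
  obtain ⟨z₀, hz₀⟩ := hn'
  have hconst : ∀ {a b z}, R' a b z → ((S a b).filter fun y => R a y z).card =
      ((S a₀ b₀).filter fun y => R a₀ y z₀).card := by
    intro a b z hz
    obtain ⟨g, hg, ga, gb, gz⟩ := hR'.hom hz hz₀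
    refine Finset.card_equiv g fun y => ?_
    simp only [hS, Finset.mem_filter, Finset.mem_univ, true_and]
    rw [← hR.inv_iff hg a b y, ← hR.inv_iff hg a y z, ga, gb, gz]
  rcases hμ hz₀ with h0 | h0
  · left
    refine mk hR hR' hcover hexcl hn ⟨z₀, hz₀⟩ swapR rotR fun {a b y z} hy hz hne => ?_
    rcases hcover (hR.ne hy).1 (hR.ne hz).2.1 hne with h | h
    · exact h
    exfalso
    have := (hconst h).trans h0
    rw [Finset.card_eq_zero, Finset.filter_eq_empty_iff] at this
    exact this (by simp [hS, hy]) hz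
  · right
    refine mk hR' hR hcover' (fun h h' => hexcl h' h) ⟨z₀, hz₀⟩ hn swapR' rotR'
      fun {a b y w} hy hw hne => ?_
    have key : ∀ {a b z}, R' a b z → S a b = S a z := by
      intro a b z hz
      have hfull := (hconst hz).trans h0
      have hSL : (S a b).card = L := hR.card_section h2 (hR'.ne hz).1 h₀
      have hsub : S a b ⊆ S a z := by
        intro y hy'
        have : (S a b).filter (fun y => R a y z) = S a b :=
          Finset.eq_of_subset_of_card_le (Finset.filter_subset _ _) (by rw [hfull, hSL])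
        rw [← this, Finset.mem_filter] at hy'
        simp only [hS, Finset.mem_filter, Finset.mem_univ, true_and]
        exact rotR hy'.2
      exact Finset.eq_of_subset_of_card_le hsub
        (by rw [hSL, show (S a z).card = L from hR.card_section h2 (hR'.ne hz).2.1 h₀])
    rcases hcover (hR'.ne hy).1 (hR'.ne hw).2.1 hne with h | h
    · exfalso
      have : w ∈ S a w := by
        rw [← key hw, ← key hy]
        simp [hS, h]
      simp only [hS, Finset.mem_filter, Finset.mem_univ, true_and] at this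
      exact (hR.ne this).2.2 rfl
    · exact h

end CfsgLib.TwinPrime
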