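import Cfsg.Agent.Lib.TwinPrime.Setup

/-!
# A linear functional on the heart bounds the number of suborbits
-/

set_option autoImplicit false

open MulAction Subgroup
open scoped Classical

namespace CfsgLib.TwinPrime

open CfsgLib.PermGroup

variable {α : Type*} [Fintype α] {p : ℕ} [Fact p.Prime]

/-- An invariant function up to sign of the stabiliser of a pair which is orthogonal to the constants
and to the coordinate is constant. -/
theorem const_of_moments (hα : Fintype.card α = p) (G : Subgroup (Equiv.Perm α))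
    [IsPretransitive G α] (hG : ¬ Group.IsSolvable G) (e : ZMod p ≃ α) (he : HasHalfAffine G e)
    (hneg : ¬ IsSquare (-1 : ZMod p)) (u : α → ZMod p) (ε : ZMod p)
    {t : Equiv.Perm α} (htG : t ∈ G) (ht0 : t (e 0) = e 1) (ht1 : t (e 1) = e 0)
    (hD : ∀ g ∈ G, g (e 0) = e 0 → g (e 1) = e 1 → ∀ x, u (g x) = u x)
    (ht : ∀ x, u (t x) = ε * u x)
    (h0 : ∑ x, u x = 0) (h1 : ∑ j, j * u (e j) = 0) : ∃ c, ∀ x, u x = c := by
  have h5 := five_le_of_insoluble hα G hG
  have hp := (Fact.out : p.Prime)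
  -- every element is a half affine map times an element of the pair stabiliser
  have hdec : ∀ g ∈ G, ∃ (k v : ZMod p) (h : Equiv.Perm α) (ε' : ZMod p), k ≠ 0 ∧
      (∀ x, u (h x) = ε' * u x) ∧ ∀ j, g (h (e j)) = e (k * j + v) := by
    intro g hg
    set a0 := e.symm (g (e 0)) with ha0
    set a1 := e.symm (g (e 1)) with ha1
    have hne : a1 - a0 ≠ 0 := by
      rw [sub_ne_zero]
      exact fun h => one_ne_zero (e.injective (g.injective (e.symm.injective h)))
    by_cases hsq : IsSquare (a1 - a0)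
    · obtain ⟨n, hn, hnj⟩ := he (a1 - a0) a0 hne hsq
      refine ⟨a1 - a0, a0, g⁻¹ * n, 1, hne, fun x => ?_, fun j => ?_⟩
      · rw [one_mul]
        refine hD _ (G.mul_mem (G.inv_mem hg) hn) ?_ ?_ x
        · rw [Equiv.Perm.mul_apply, hnj, mul_zero, zero_add, ha0, e.apply_symm_apply,
            Equiv.Perm.inv_def, Equiv.symm_apply_apply]
        · rw [Equiv.Perm.mul_apply, hnj, mul_one, sub_add_cancel, ha1, e.apply_symm_apply,
            Equiv.Perm.inv_def, Equiv.symm_apply_apply]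
      · rw [← hnj]; simp
    · have hsq' : IsSquare (a0 - a1) := by
        have h1' := quadraticChar_neg_one_iff_not_isSquare.2 hsq
        have hm := quadraticChar_neg_one_iff_not_isSquare.2 hneg
        have hprod : quadraticChar (ZMod p) (a0 - a1) = 1 := by
          rw [show a0 - a1 = (-1) * (a1 - a0) by ring, map_mul, h1', hm]; norm_num
        exact (quadraticChar_one_iff_isSquare (by rw [sub_ne_zero]; exact fun h => hne (by
          rw [h, sub_self]))).1 hprod
      obtain ⟨n, hn, hnj⟩ := he (a0 - a1) a1 (fun h => hne (by linear_combination -h)) hsq'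
      have hd : ∀ x, u ((t⁻¹ * (g⁻¹ * n)) x) = u x := by
        refine hD _ (G.mul_mem (G.inv_mem htG) (G.mul_mem (G.inv_mem hg) hn)) ?_ ?_
        · have h' : (g⁻¹ * n) (e 0) = t (e 0) := by
            rw [Equiv.Perm.mul_apply, hnj, mul_zero, zero_add, ha1, e.apply_symm_apply,
              Equiv.Perm.inv_def, Equiv.symm_apply_apply, ht0]
          rw [Equiv.Perm.mul_apply, h', Equiv.Perm.inv_def, Equiv.symm_apply_apply]
        · have h' : (g⁻¹ * n) (e 1) = t (e 1) := by
            rw [Equiv.Perm.mul_apply, hnj, mul_one, sub_add_cancel, ha0, e.apply_symm_apply,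
              Equiv.Perm.inv_def, Equiv.symm_apply_apply, ht1]
          rw [Equiv.Perm.mul_apply, h', Equiv.Perm.inv_def, Equiv.symm_apply_apply]
      refine ⟨a0 - a1, a1, g⁻¹ * n, ε, fun h => hne (by linear_combination -h), fun x => ?_,
        fun j => ?_⟩
      · have h' := ht ((t⁻¹ * (g⁻¹ * n)) x)
        rw [hd] at h'
        rw [← h']
        simp
      · rw [← hnj]; simp
  -- the invariant subspace
  have hsumx : ∀ (w : α → ZMod p), ∑ x, w x = ∑ j, w (e j) := fun w => (e.sum_comp w).symm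
  let Z : Submodule (ZMod p) (α → ZMod p) :=
    { carrier := {w | ∀ g ∈ G, ∑ x, w x = 0 ∧ ∑ j, j * w (g (e j)) = 0}
      zero_mem' := fun g _ => by simp
      add_mem' := fun {w w'} hw hw' g hg => by
        simp [Finset.sum_add_distrib, mul_add, (hw g hg).1, (hw g hg).2, (hw' g hg).1,
          (hw' g hg).2]
      smul_mem' := fun c w hw g hg => by
        simp only [Pi.smul_apply, smul_eq_mul, ← Finset.mul_sum, (hw g hg).1, mul_zero,
          mul_left_comm _ c, (hw g hg).2, and_self] }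
  let W : Subrepresentation (Cfsg.permRep (ZMod p) G α) :=
    { toSubmodule := Z
      apply_mem_toSubmodule := fun g w hw h hh => by
        refine ⟨?_, ?_⟩
        · rw [← (hw 1 G.one_mem).1]
          exact Fintype.sum_equiv (g : Equiv.Perm α)⁻¹ _ _ fun x => rfl
        · have h2 := (hw _ (G.mul_mem (G.inv_mem g.2) hh)).2
          exact h2 }
  have hsum1 : ∑ j : ZMod p, j = 0 := by
    have h := sum_pt_pow (K := ZMod p) (p := p) (show 1 < p - 1 by omega)
    simpa [pt] using h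
  have hcC : (Cfsg.permConstants (ZMod p) G α).toSubmodule ≤ W.toSubmodule := by
    intro w hw g _
    obtain ⟨c, hc⟩ := mem_permConstants_iff.1 hw
    simp only [hc, ← Finset.sum_mul, hsum1, zero_mul, Finset.sum_const, Finset.card_univ, hα,
      nsmul_eq_mul, ZMod.natCast_self, and_self]
  have hcS : W.toSubmodule ≤ (Cfsg.permSumZero (ZMod p) G α).toSubmodule := fun w hw =>
    mem_permSumZero_iff.2 (hw 1 G.one_mem).1
  have huW : u ∈ W.toSubmodule := by
    intro g hg
    refine ⟨h0, ?_⟩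
    obtain ⟨k, v, h, ε', hk, hh, hgh⟩ := hdec g⁻¹ (G.inv_mem hg)
    have hge : ∀ j, g (e (k * j + v)) = h (e j) := fun j => by
      rw [← hgh, Equiv.Perm.inv_def, Equiv.apply_symm_apply]
    let σ : ZMod p ≃ ZMod p := (Equiv.mulLeft₀ k hk).trans (Equiv.addRight v)
    rw [← σ.sum_comp]
    have hs : ∀ j, σ j * u (g (e (σ j))) = ε' * k * (j * u (e j)) + ε' * v * u (e j) := by
      intro j
      show (k * j + v) * u (g (e (k * j + v))) = _
      rw [hge, hh]; ring
    rw [Finset.sum_congr rfl fun j _ => hs j, Finset.sum_add_distrib, ← Finset.mul_sum,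
      ← Finset.mul_sum, ← hsumx, h0, h1, mul_zero, mul_zero, add_zero]
  rcases heart_irreducible (ZMod p) hα G hG W hcC hcS with h | h
  · rw [h] at huW
    exact mem_permConstants_iff.1 huW
  · exfalso
    have hw : (fun x => (xfun (ZMod p) e x) ^ (p - 2)) ∈ W.toSubmodule := by
      rw [h, mem_permSumZero_iff, hsumx]
      simp only [xfun_apply]
      exact sum_pt_pow (by omega)
    have h2 := (hw 1 G.one_mem).2
    simp only [Equiv.Perm.one_apply, xfun_apply] at h2
    have h3 := sum_pt_pow_top (K := ZMod p) (p := p)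
    refine absurd (h3.symm.trans ((Finset.sum_congr rfl fun j _ => ?_).trans h2))
      (neg_ne_zero.2 one_ne_zero)
    rw [show p - 1 = p - 2 + 1 by omega, pow_succ, mul_comm]
    simp [pt]

/-- A non-zero combination of five functions with three vanishing moments and first coefficient
zero. -/
theorem exists_combination (I : Fin 5 → α → ZMod p) (τ : ZMod p → α) (e : ZMod p ≃ α) :
    ∃ c : Fin 5 → ZMod p, ∑ x, ∑ i, c i * I i x = 0 ∧ ∑ j, j * (∑ i, c i * I i (e j)) = 0 ∧
      ∑ j, j * (∑ i, c i * I i (τ j)) = 0 ∧ c 0 = 0 ∧ c ≠ 0 := by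
  let w : Fin 5 → Fin 4 → ZMod p := fun i =>
    ![∑ x, I i x, ∑ j, j * I i (e j), ∑ j, j * I i (τ j), if i = 0 then 1 else 0]
  have hdep : ¬ LinearIndependent (ZMod p) w := fun h => by
    have h' := h.fintype_card_le_finrank
    rw [Module.finrank_fintype_fun_eq_card, Fintype.card_fin, Fintype.card_fin] at h'
    omega
  obtain ⟨c, hc, i, hi⟩ := Fintype.not_linearIndependent_iff.1 hdep
  have key : ∀ k, ∑ i, c i * w i k = 0 := fun k => by
    simpa [Finset.sum_apply] using congrFun hc k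
  refine ⟨c, ?_, ?_, ?_, ?_, fun h => hi (by rw [h]; rfl)⟩
  · rw [Finset.sum_comm]
    simpa [w, Finset.mul_sum] using key 0
  · simp only [Finset.mul_sum]
    rw [Finset.sum_comm]
    simpa [w, Finset.mul_sum, mul_left_comm] using key 1
  · simp only [Finset.mul_sum]
    rw [Finset.sum_comm]
    simpa [w, Finset.mul_sum, mul_left_comm] using key 2
  · simpa [w] using key 3

/-- A pair stabiliser has at most two orbits on the remaining points. -/
theorem two_orbits (hα : Fintype.card α = p) (G : Subgroup (Equiv.Perm α))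
    [IsPretransitive G α] (hG : ¬ Group.IsSolvable G) (e : ZMod p ≃ α) (he : HasHalfAffine G e)
    (hneg : ¬ IsSquare (-1 : ZMod p)) {c₁ c₂ c₃ : α} (h₁ : c₁ ≠ e 0 ∧ c₁ ≠ e 1)
    (h₂ : c₂ ≠ e 0 ∧ c₂ ≠ e 1) (h₃ : c₃ ≠ e 0 ∧ c₃ ≠ e 1) :
    ∃ g ∈ G, g (e 0) = e 0 ∧ g (e 1) = e 1 ∧ (g c₁ = c₂ ∨ g c₁ = c₃ ∨ g c₂ = c₃) := by
  have h5 := five_le_of_insoluble hα G hG
  by_contra hcon
  have hne01 : e 0 ≠ e 1 := fun h => zero_ne_one (e.injective h)
  let D : Subgroup G := stabilizer G (e 0) ⊓ stabilizer G (e 1)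
  have hmem : ∀ g : G, g ∈ D ↔
      (g : Equiv.Perm α) (e 0) = e 0 ∧ (g : Equiv.Perm α) (e 1) = e 1 := fun g => Iff.rfl
  have hfix : ∀ x y, y ∈ orbit D x → (x = e 0 → y = e 0) ∧ (x = e 1 → y = e 1) := by
    rintro x y ⟨⟨g, hg⟩, rfl⟩
    exact ⟨fun h => h ▸ ((hmem g).1 hg).1, fun h => h ▸ ((hmem g).1 hg).2⟩
  have hD : ∀ x y, y ∈ orbit D x → ∃ g ∈ G, g (e 0) = e 0 ∧ g (e 1) = e 1 ∧ g x = y := by
    rintro x y ⟨⟨g, hg⟩, rfl⟩
    exact ⟨g, g.2, ((hmem g).1 hg).1, ((hmem g).1 hg).2, rfl⟩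
  obtain ⟨T, hT0, hT1⟩ := (is_two_pretransitive_iff (G := G) (α := α)).1
    (two_transitive_of_insoluble hα G hG) hne01 hne01.symm
  have hT0' : (T : Equiv.Perm α) (e 0) = e 1 := hT0
  have hT1' : (T : Equiv.Perm α) (e 1) = e 0 := hT1
  let P : Fin 5 → α := ![e 0, e 1, c₁, c₂, c₃]
  have hsep : ∀ i j : Fin 5, i < j → P j ∉ orbit D (P i) := by
    intro i j hij hj
    obtain ⟨g, hgG, hg0, hg1, hg⟩ := hD _ _ hj
    obtain ⟨hf0, hf1⟩ := hfix _ _ hj
    fin_cases i <;> fin_cases j <;> simp at hij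
    · exact hne01 (hf0 rfl).symm
    · exact h₁.1 (hf0 rfl)
    · exact h₂.1 (hf0 rfl)
    · exact h₃.1 (hf0 rfl)
    · exact h₁.2 (hf1 rfl)
    · exact h₂.2 (hf1 rfl)
    · exact h₃.2 (hf1 rfl)
    · exact hcon ⟨g, hgG, hg0, hg1, Or.inl hg⟩
    · exact hcon ⟨g, hgG, hg0, hg1, Or.inr (Or.inl hg)⟩
    · exact hcon ⟨g, hgG, hg0, hg1, Or.inr (Or.inr hg)⟩
  have hdis : ∀ i j : Fin 5, i ≠ j → P j ∉ orbit D (P i) := by
    intro i j hij hj
    rcases lt_or_gt_of_ne hij with h | h
    · exact hsep i j h hj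
    · refine hsep j i h ?_
      rw [← orbit_eq_iff] at hj ⊢
      exact hj.symm
  let I : Fin 5 → α → ZMod p := fun i x => if x ∈ orbit D (P i) then 1 else 0
  have hI : ∀ i, ∀ g ∈ G, g (e 0) = e 0 → g (e 1) = e 1 → ∀ x, I i (g x) = I i x := by
    intro i g hg hg0 hg1 x
    have : g x ∈ orbit D (P i) ↔ x ∈ orbit D (P i) := by
      let d : D := ⟨⟨g, hg⟩, (hmem _).2 ⟨hg0, hg1⟩⟩
      rw [show g x = d • x from rfl, ← orbit_eq_iff, ← orbit_eq_iff,
        orbit_eq_iff.mpr (mem_orbit x d)]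
    simp only [I, this]
  obtain ⟨c, e0, e1, e2, e3, hc0⟩ := exists_combination I (fun j => (T : Equiv.Perm α) (e j)) e
  set u : α → ZMod p := fun x => ∑ i, c i * I i x with hu
  have hvP : ∀ j, u (P j) = c j := by
    intro j
    simp only [hu, I]
    rw [Finset.sum_eq_single j (fun i _ hi => by rw [if_neg (hdis i j hi), mul_zero])
      (fun h => absurd (Finset.mem_univ j) h), if_pos (mem_orbit_self _), mul_one]
  have hvD : ∀ g ∈ G, g (e 0) = e 0 → g (e 1) = e 1 → ∀ x, u (g x) = u x := by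
    intro g hg hg0 hg1 x
    simp only [hu, hI _ g hg hg0 hg1]
  have e1' : ∑ j, j * u (e j) = 0 := e1
  have e2' : ∑ j, j * u ((T : Equiv.Perm α) (e j)) = 0 := e2
  have hTT : ∀ x, u ((T : Equiv.Perm α) ((T : Equiv.Perm α) x)) = u x := fun x =>
    hvD _ (G.mul_mem T.2 T.2) (by rw [Equiv.Perm.mul_apply, hT0', hT1'])
      (by rw [Equiv.Perm.mul_apply, hT1', hT0']) x
  have hsumT : ∑ x, u ((T : Equiv.Perm α) x) = 0 := by
    rw [Equiv.sum_comp (T : Equiv.Perm α) u]; exact e0
  have hinv : ∀ g ∈ G, g (e 0) = e 0 → g (e 1) = e 1 → ∀ x,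
      u ((T : Equiv.Perm α) (g x)) = u ((T : Equiv.Perm α) x) := by
    intro g hg hg0 hg1 x
    have key := hvD _ (G.mul_mem (G.mul_mem T.2 hg) (G.inv_mem T.2))
      (by rw [Equiv.Perm.mul_apply, Equiv.Perm.mul_apply,
        show (T : Equiv.Perm α)⁻¹ (e 0) = e 1 by rw [Equiv.Perm.inv_def, Equiv.symm_apply_eq, hT1'],
        hg1, hT1'])
      (by rw [Equiv.Perm.mul_apply, Equiv.Perm.mul_apply,
        show (T : Equiv.Perm α)⁻¹ (e 1) = e 0 by rw [Equiv.Perm.inv_def, Equiv.symm_apply_eq, hT0'],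
        hg0, hT0']) ((T : Equiv.Perm α) x)
    simpa [Equiv.Perm.mul_apply] using key
  obtain ⟨a, ha⟩ := const_of_moments hα G hG e he hneg (fun x => u x + u ((T : Equiv.Perm α) x)) 1
    T.2 hT0' hT1' (fun g hg hg0 hg1 x => by rw [hvD g hg hg0 hg1, hinv g hg hg0 hg1])
    (fun x => by rw [hTT]; ring)
    (by rw [Finset.sum_add_distrib, e0, hsumT, add_zero])
    (by simp only [mul_add, Finset.sum_add_distrib, e1', e2', add_zero])
  obtain ⟨b, hb⟩ := const_of_moments hα G hG e he hneg (fun x => u x - u ((T : Equiv.Perm α) x))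
    (-1) T.2 hT0' hT1' (fun g hg hg0 hg1 x => by rw [hvD g hg hg0 hg1, hinv g hg hg0 hg1])
    (fun x => by rw [hTT]; ring)
    (by rw [Finset.sum_sub_distrib, e0, hsumT, sub_zero])
    (by simp only [mul_sub, Finset.sum_sub_distrib, e1', e2', sub_zero])
  refine hc0 (funext fun i => ?_)
  have hconst : ∀ x, 2 * u x = a + b := fun x => by linear_combination ha x + hb x
  have h := (hconst (P i)).trans (hconst (P 0)).symm
  rw [hvP, hvP, e3, mul_zero] at h
  refine (mul_eq_zero.1 h).resolve_left fun h2 => ?_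
  have h2' : ((2 : ℕ) : ZMod p) = 0 := by exact_mod_cast h2
  have := Nat.le_of_dvd (by norm_num) ((ZMod.natCast_eq_zero_iff 2 p).1 h2')
  omega

end CfsgLib.TwinPrime
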