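import Cfsg.Agent.Lib.TwinPrime.Five
import Cfsg.Agent.Lib.PermGroup.HalfAction

/-!
# Twin prime degree: transfer to abstract actions
-/

set_option autoImplicit false

open MulAction Subgroup
open scoped Classical

namespace CfsgLib.TwinPrime

open CfsgLib.PermGroup.Half

variable {G Ω : Type*} [Group G] [Finite G] [MulAction G Ω] [FaithfulSMul G Ω] [Finite Ω]

/-- The image is even and five-transitive. -/
theorem img_five [Fintype Ω] [DecidableEq Ω] {p : ℕ} (hp : p.Prime) (hΩ : Nat.card Ω = p)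
    (ht : IsPretransitive G Ω) (hins : ¬ Group.IsSolvable G) (P : Sylow p G)
    (hN : 2 * Nat.card (normalizer ((P : Subgroup G) : Set G)) = p * (p - 1))
    {q : ℕ} (hq : q.Prime) (hq5 : 5 < q) (hpq : p = q + 2) :
    img G Ω ≤ alternatingGroup Ω ∧ IsMultiplyPretransitive (img G Ω) Ω 5 := by
  haveI : Fact p.Prime := ⟨hp⟩
  rw [Nat.card_eq_fintype_card] at hΩ
  haveI := img_pretransitive (G := G) ht
  have hφ : Function.Surjective (imgEquiv (G := G) (Ω := Ω)).toMonoidHom :=
    (imgEquiv (G := G) (Ω := Ω)).surjective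
  have hN' : 2 * Nat.card (normalizer
      ((P.mapSurjective hφ : Subgroup (img G Ω)) : Set (img G Ω))) = p * (p - 1) := by
    rw [← hN, Sylow.coe_mapSurjective]
    congr 1
    show Nat.card (Subgroup.normalizer
      ((((P : Subgroup G)).map (imgEquiv (G := G) (Ω := Ω)).toMonoidHom : Subgroup (img G Ω)) :
        Set (img G Ω))) = _
    rw [← Subgroup.map_equiv_normalizer_eq]
    exact (Nat.card_congr
      (Subgroup.equivMapOfInjective _ _ (imgEquiv (G := G) (Ω := Ω)).injective).toEquiv).symm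
  obtain ⟨hA, h5⟩ :=
    exists_five_of_twin hΩ (img G Ω) (not_solvable_img hins) _ hN' hq hq5 hpq
  exact ⟨hA, ⟨fun x y => by
    obtain ⟨g, hg, h⟩ := h5 x y
    exact ⟨⟨g, hg⟩, Function.Embedding.ext h⟩⟩⟩

theorem of_img {n : ℕ} (h : IsMultiplyPretransitive (img G Ω) Ω n) :
    IsMultiplyPretransitive G Ω n := ⟨fun x y => by
  obtain ⟨g, hg⟩ := h.exists_smul_eq x y
  obtain ⟨g', rfl⟩ := (imgEquiv (G := G) (Ω := Ω)).surjective g
  exact ⟨g', Function.Embedding.ext fun i => DFunLike.congr_fun hg i⟩⟩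

end CfsgLib.TwinPrime
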