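import Cfsg.Agent.Lib.TwinPrime.Frame
import Mathlib.GroupTheory.SpecificGroups.Alternating
import Mathlib.GroupTheory.GroupAction.Jordan

/-!
# Alternating groups in prime degree `2r+3` and `3r+4`
-/

set_option autoImplicit false

open MulAction Subgroup
open scoped Classical Pointwise commutatorElement

namespace CfsgLib.TwinPrime

variable {α : Type*} [Fintype α]

theorem exists_moves {G : Subgroup (Equiv.Perm α)} {n : ℕ} (h : IsMultiplyPretransitive G α n)
    (x y : Fin n ↪ α) : ∃ g ∈ G, ∀ i, g (x i) = y i := by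
  haveI := h
  obtain ⟨g, hg⟩ := exists_smul_eq G x y
  exact ⟨g, g.2, fun i => DFunLike.congr_fun hg i⟩

section Construction

variable (G : Subgroup (Equiv.Perm α)) {k : ℕ} (Γ : Fin k ↪ α)

/-- Elements of `G` permuting `Γ`. -/
def gammaSet : Subgroup (Equiv.Perm α) where
  carrier := {g | g ∈ G ∧ ∃ π : Equiv.Perm (Fin k), ∀ i, g (Γ i) = Γ (π i)}
  one_mem' := ⟨G.one_mem, 1, fun _ => rfl⟩
  mul_mem' := by
    rintro g g' ⟨hg, π, hπ⟩ ⟨hg', π', hπ'⟩
    exact ⟨G.mul_mem hg hg', π * π', fun i => by rw [Equiv.Perm.mul_apply, hπ', hπ]; rfl⟩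
  inv_mem' := by
    rintro g ⟨hg, π, hπ⟩
    refine ⟨G.inv_mem hg, π⁻¹, fun i => g.injective ?_⟩
    rw [← Equiv.Perm.mul_apply g g⁻¹, mul_inv_cancel, hπ, ← Equiv.Perm.mul_apply, mul_inv_cancel]
    rfl

/-- The pointwise stabiliser of `Γ`, inside `gammaSet`. -/
def gammaFix : Subgroup (gammaSet G Γ) where
  carrier := {g | ∀ i, (g : Equiv.Perm α) (Γ i) = Γ i}
  one_mem' := fun _ => rfl
  mul_mem' := fun {g g'} hg hg' i => by
    show (g : Equiv.Perm α) ((g' : Equiv.Perm α) (Γ i)) = Γ i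
    rw [hg' i, hg i]
  inv_mem' := fun {g} hg i => by
    show ((g : Equiv.Perm α))⁻¹ (Γ i) = Γ i
    conv_lhs => rw [← hg i]
    exact Equiv.symm_apply_apply _ _

instance gammaFix_normal : (gammaFix G Γ).Normal := by
  refine ⟨fun n hn g i => ?_⟩
  obtain ⟨-, π, hπ⟩ := (inv_mem g.2 : (g : Equiv.Perm α)⁻¹ ∈ gammaSet G Γ)
  show (g : Equiv.Perm α) ((n : Equiv.Perm α) ((g : Equiv.Perm α)⁻¹ (Γ i))) = Γ i
  rw [hπ, hn, ← hπ]
  exact Equiv.apply_symm_apply _ _

variable {G Γ}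

/-- **Existence of frames**, with every permutation of `Γ` lifted. -/
theorem exists_frame {r s : ℕ} (hr : r.Prime) (hs : 1 ≤ s) (hsr : s < r)
    (hcard : Fintype.card α = s * r + k) (hk : IsMultiplyPretransitive G α k)
    (hk1 : IsMultiplyPretransitive G α (k + 1)) :
    ∃ F : Frame G r s Γ, ∀ π, ∃ σ w, F.Lift π σ w := by
  haveI : Fact r.Prime := ⟨hr⟩
  set D := gammaFix G Γ
  let P : Sylow r D := default
  set R : Subgroup (Equiv.Perm α) := ((P : Subgroup D).map D.subtype).map (gammaSet G Γ).subtype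
    with hR
  have hmemR : ∀ v, v ∈ R ↔ ∃ a : D, a ∈ (P : Subgroup D) ∧ ((a : gammaSet G Γ) : Equiv.Perm α) = v := by
    intro v
    simp only [hR, Subgroup.mem_map, Subgroup.coe_subtype]
    constructor
    · rintro ⟨b, ⟨a, ha, rfl⟩, rfl⟩; exact ⟨a, ha, rfl⟩
    · rintro ⟨a, ha, rfl⟩; exact ⟨_, ⟨a, ha, rfl⟩, rfl⟩
  have hfix : ∀ v ∈ R, ∀ i, v (Γ i) = Γ i := by
    intro v hv
    obtain ⟨a, -, rfl⟩ := (hmemR v).1 hv
    exact a.2
  have hle : R ≤ G := by
    intro v hv
    obtain ⟨a, -, rfl⟩ := (hmemR v).1 hv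
    exact (a : gammaSet G Γ).2.1
  have hout : ∀ v ∈ R, ∀ z, z ∉ Set.range Γ → v z ∉ Set.range Γ := fun v hv z hz ⟨i, hi⟩ =>
    hz ⟨i, v.injective ((hfix v hv i).trans hi)⟩
  -- the complement of `Γ`
  set S : Finset α := Finset.univ.filter (· ∉ Set.range Γ) with hS
  have hScard : S.card = s * r := by
    have h1 : S = (Finset.univ.map Γ)ᶜ := by ext; simp [hS]
    rw [h1, Finset.card_compl, Finset.card_map, Finset.card_univ, Fintype.card_fin]
    omega
  -- orbits of `R` outside `Γ`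
  let orb : α → Finset α := fun x => Finset.univ.filter (· ∈ orbit (P : Subgroup D) x)
  have horb : ∀ x z, z ∈ orb x ↔ ∃ v ∈ R, v x = z := by
    intro x z
    simp only [orb, Finset.mem_filter, Finset.mem_univ, true_and]
    constructor
    · rintro ⟨a, rfl⟩; exact ⟨_, (hmemR _).2 ⟨a, a.2, rfl⟩, rfl⟩
    · rintro ⟨v, hv, rfl⟩
      obtain ⟨a, ha, rfl⟩ := (hmemR v).1 hv
      exact ⟨⟨a, ha⟩, rfl⟩
  have horbS : ∀ x ∈ S, orb x ⊆ S := by
    intro x hx z hz
    obtain ⟨v, hv, rfl⟩ := (horb x z).1 hz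
    simp only [hS, Finset.mem_filter, Finset.mem_univ, true_and] at hx ⊢
    exact hout v hv x hx
  have horbcard : ∀ x, (orb x).card = Nat.card (orbit (P : Subgroup D) x) := by
    intro x
    rw [Nat.card_eq_fintype_card]
    exact (Fintype.card_of_subtype _ (fun z => by simp [orb])).symm
  have hDorb : ∀ x ∈ S, orbit D x = (S : Set α) := by
    intro x hx
    simp only [hS, Finset.mem_filter, Finset.mem_univ, true_and] at hx
    ext z
    simp only [hS, Finset.coe_filter, Finset.mem_univ, true_and, Set.mem_ofPred_eq]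
    constructor
    · rintro ⟨a, rfl⟩ ⟨i, hi⟩
      exact hx ⟨i, (((a : gammaSet G Γ) : Equiv.Perm α)).injective ((a.2 i).trans hi)⟩
    · intro hz
      obtain ⟨g, hg, hgi⟩ := exists_moves hk1
        ⟨Fin.cons x Γ, Fin.cons_injective_iff.2 ⟨hx, Γ.injective⟩⟩
        ⟨Fin.cons z Γ, Fin.cons_injective_iff.2 ⟨hz, Γ.injective⟩⟩
      have hgΓ : ∀ i, g (Γ i) = Γ i := fun i => by simpa using hgi i.succ
      refine ⟨⟨⟨g, hg, 1, hgΓ⟩, hgΓ⟩, ?_⟩
      show g x = z
      simpa using hgi 0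
  have hr2 := hr.two_le
  have horbr : ∀ x ∈ S, (orb x).card = r := by
    intro x hx
    obtain ⟨n, hn⟩ := P.isPGroup'.card_orbit (G := (P : Subgroup D)) x
    rw [← horbcard] at hn
    have hle' : (orb x).card ≤ s * r := hScard ▸ Finset.card_le_card (horbS x hx)
    have hlt : s * r < r ^ 2 := by rw [sq]; exact Nat.mul_lt_mul_of_pos_right hsr hr.pos
    rcases n with _ | _ | n
    · exfalso
      rw [pow_zero, horbcard] at hn
      have hsub : (P : Subgroup D) ≤ stabilizer D x := by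
        intro a ha
        haveI := (Nat.card_eq_one_iff_unique.1 hn).1
        exact congrArg Subtype.val
          (Subsingleton.elim (⟨a • x, ⟨⟨a, ha⟩, rfl⟩⟩ : orbit (P : Subgroup D) x)
            ⟨x, mem_orbit_self x⟩)
      have h1 : (stabilizer D x).index = s * r := by
        rw [index_stabilizer, hDorb x hx, Set.ncard_coe_finset, hScard]
      exact P.not_dvd_index
        ((h1 ▸ Dvd.intro_left s rfl : r ∣ (stabilizer D x).index).trans (index_dvd_of_le hsub))
    · rw [hn, pow_one]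
    · exfalso
      have : r ^ 2 ≤ r ^ (n + 1 + 1) := Nat.pow_le_pow_right hr.pos (by omega)
      omega
  -- regularity
  have hreg : ∀ v ∈ R, ∀ x, v x = x → ∀ u ∈ R, v (u x) = u x := by
    intro v hv x hvx u hu
    by_cases hx : x ∈ Set.range Γ
    · obtain ⟨i, rfl⟩ := hx
      rw [hfix u hu, hfix v hv]
    have hxS : x ∈ S := by simpa [hS] using hx
    obtain ⟨a, ha, rfl⟩ := (hmemR v).1 hv
    set H : Subgroup D := (P : Subgroup D) ⊓ stabilizer D x
    have hH : IsPGroup r H := P.isPGroup'.to_le inf_le_left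
    obtain ⟨n, hn⟩ := hH.card_orbit (G := H) (u x)
    by_cases hux : u x = x
    · rw [hux]; exact hvx
    have hsub : orbit H (u x) ⊆ ((orb x).erase x : Set α) := by
      rintro _ ⟨b, rfl⟩
      rw [Finset.mem_coe, Finset.mem_erase]
      refine ⟨fun h => hux (smul_left_cancel (b : D) ?_), ?_⟩
      · exact h.trans (b.2.2 : (b : D) • x = x).symm
      · exact (horb _ _).2 ⟨_, mul_mem ((hmemR _).2 ⟨b, b.2.1, rfl⟩) hu, rfl⟩
    have hlt : Nat.card (orbit H (u x)) < r := by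
      refine lt_of_le_of_lt (Nat.card_mono (Finset.finite_toSet _) hsub) ?_
      rw [Nat.card_coe_set_eq, Set.ncard_coe_finset, Finset.card_erase_of_mem
        ((horb x x).2 ⟨1, one_mem _, rfl⟩), horbr x hxS]
      omega
    have hn0 : n = 0 := by
      by_contra h
      have : r ≤ r ^ n := Nat.le_self_pow h r
      omega
    rw [hn0, pow_zero] at hn
    haveI := (Nat.card_eq_one_iff_unique.1 hn).1
    exact congrArg Subtype.val
      (Subsingleton.elim (⟨_, ⟨⟨a, ha, hvx⟩, rfl⟩⟩ : orbit H (u x)) ⟨u x, mem_orbit_self _⟩)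
  -- exponent `r`
  have hzp : ∀ u ∈ R, ∀ x, u x ≠ x →
      (∀ z, z ∈ orb x → ∃ l : ℕ, (u ^ l) x = z) ∧ (u ^ r) x = x := by
    intro u hu x hux
    have hxS : x ∈ S := by
      simp only [hS, Finset.mem_filter, Finset.mem_univ, true_and]
      rintro ⟨i, rfl⟩
      exact hux (hfix u hu i)
    set Z : Subgroup (Equiv.Perm α) := zpowers u
    have hZ : IsPGroup r R := hR ▸ (P.isPGroup'.map _).map _
    have hZ' : IsPGroup r Z := hZ.to_le (by rwa [zpowers_le])
    obtain ⟨n, hn⟩ := hZ'.card_orbit (G := Z) x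
    have hsub : orbit Z x ⊆ (orb x : Set α) := by
      rintro _ ⟨b, rfl⟩
      exact (horb _ _).2 ⟨b, zpowers_le.2 hu b.2, rfl⟩
    have hle' : Nat.card (orbit Z x) ≤ r := by
      refine le_trans (Nat.card_mono (Finset.finite_toSet _) hsub) ?_
      rw [Nat.card_coe_set_eq, Set.ncard_coe_finset, horbr x hxS]
    have hn1 : n = 1 := by
      rcases n with _ | _ | n
      · exfalso
        rw [pow_zero] at hn
        haveI := (Nat.card_eq_one_iff_unique.1 hn).1
        exact hux (congrArg Subtype.val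
          (Subsingleton.elim (⟨_, ⟨⟨u, mem_zpowers u⟩, rfl⟩⟩ : orbit Z x) ⟨x, mem_orbit_self _⟩))
      · rfl
      · exfalso
        have : r ^ 2 ≤ r ^ (n + 1 + 1) := Nat.pow_le_pow_right hr.pos (by omega)
        have : r < r ^ 2 := by rw [sq]; exact lt_mul_self hr.one_lt
        omega
    rw [hn1, pow_one] at hn
    constructor
    · intro z hz
      have heq : orbit Z x = (orb x : Set α) :=
        Set.eq_of_subset_of_ncard_le hsub
          (by rw [Set.ncard_coe_finset, horbr x hxS, ← Nat.card_coe_set_eq, hn]) (Set.toFinite _)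
      obtain ⟨⟨b, hb⟩, rfl⟩ := (heq.symm ▸ hz : z ∈ orbit Z x)
      obtain ⟨l, rfl⟩ := (mem_powers_iff_mem_zpowers (x := u)).2 hb
      exact ⟨l, rfl⟩
    · have hidx : (stabilizer Z x).index = r := by
        rw [index_stabilizer, ← Nat.card_coe_set_eq, hn]
      exact (hidx ▸ pow_index_mem (stabilizer Z x) (⟨u, mem_zpowers u⟩ : Z) :
        (⟨u, mem_zpowers u⟩ : Z) ^ r ∈ stabilizer Z x)
  have hpow : ∀ v ∈ R, v ^ r = 1 := by
    intro v hv
    refine Equiv.ext fun x => ?_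
    by_cases h : v x = x
    · exact Equiv.Perm.pow_apply_eq_self_of_apply_eq_self h r
    · exact (hzp v hv x h).2
  -- the labels
  set O : Finset (Finset α) := S.image orb
  have horb_eq : ∀ x z, z ∈ orb x → orb z = orb x := by
    intro x z hz
    simp only [orb, Finset.mem_filter, Finset.mem_univ, true_and] at hz
    ext w
    simp only [orb, Finset.mem_filter, Finset.mem_univ, true_and]
    rw [orbit_eq_iff.2 hz]
  have hfib : ∀ x ∈ S, S.filter (fun z => orb z = orb x) = orb x := by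
    intro x hx
    ext z
    rw [Finset.mem_filter]
    constructor
    · rintro ⟨-, hz⟩
      exact hz ▸ (horb z z).2 ⟨1, one_mem _, rfl⟩
    · exact fun hz => ⟨horbS x hx hz, horb_eq x z hz⟩
  have hOcard : O.card = s := by
    have h := Finset.card_eq_sum_card_image orb S
    rw [hScard, Finset.sum_const_nat (m := r) (fun o ho => by
      obtain ⟨x, hx, rfl⟩ := Finset.mem_image.1 ho
      rw [hfib x hx, horbr x hx])] at h
    exact (Nat.eq_of_mul_eq_mul_right hr.pos h).symm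
  let e : O ≃ Fin s := Finset.equivFinOfCardEq hOcard
  let o : α → Fin s := fun z => if h : orb z ∈ O then e ⟨_, h⟩ else ⟨0, hs⟩
  have hoe : ∀ z, z ∉ Set.range Γ → ∃ h, o z = e ⟨orb z, h⟩ := by
    intro z hz
    have h : orb z ∈ O := Finset.mem_image_of_mem _ (by simpa [hS] using hz)
    exact ⟨h, dif_pos h⟩
  have horbit_iff : ∀ z z', z ∉ Set.range Γ → z' ∉ Set.range Γ →
      (o z = o z' ↔ ∃ v ∈ R, v z = z') := by
    intro z z' hz hz'
    obtain ⟨h1, e1⟩ := hoe z hz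
    obtain ⟨h2, e2⟩ := hoe z' hz'
    rw [e1, e2, e.injective.eq_iff, Subtype.mk_eq_mk, ← horb]
    constructor
    · intro h; exact h ▸ (horb z' z').2 ⟨1, one_mem _, rfl⟩
    · intro h; exact (horb_eq z z' h).symm
  have hsurj : ∀ i, ∃ z, z ∉ Set.range Γ ∧ o z = i := by
    intro i
    obtain ⟨x, hx, hxe⟩ := Finset.mem_image.1 (e.symm i).2
    have hx' : x ∉ Set.range Γ := by simpa [hS] using hx
    obtain ⟨h1, e1⟩ := hoe x hx'
    refine ⟨x, hx', ?_⟩
    rw [e1, Equiv.apply_eq_iff_eq_symm_apply]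
    exact Subtype.ext hxe
  let F : Frame G r s Γ :=
    { R := R
      o := o
      le := hle
      fix := hfix
      pow_r := hpow
      move := fun z hz => by
        obtain ⟨w, hw, hne⟩ := Finset.exists_mem_ne
          (hr.one_lt.trans_eq (horbr z (by simpa [hS] using hz)).symm) z
        obtain ⟨v, hv, rfl⟩ := (horb z w).1 hw
        exact ⟨v, hv, hne⟩
      regular := hreg
      pow_eq := fun u hu x hux v hv => by
        obtain ⟨l, hl⟩ := (hzp u hu x hux).1 _ ((horb _ _).2 ⟨v, hv, rfl⟩)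
        exact ⟨l, hl.symm⟩
      orbit_iff := horbit_iff
      label_surj := hsurj
      class_card := fun i => by
        obtain ⟨x, hx, rfl⟩ := hsurj i
        rw [← horbr x (by simpa [hS] using hx), ← Set.ncard_coe_finset]
        congr 1
        ext z
        rw [Set.mem_ofPred_eq, Finset.mem_coe, horb]
        constructor
        · rintro ⟨hz, hzo⟩; exact (horbit_iff x z hx hz).1 hzo.symm
        · rintro ⟨v, hv, rfl⟩
          exact ⟨hout v hv x hx, ((horbit_iff x _ hx (hout v hv x hx)).2 ⟨v, hv, rfl⟩).symm⟩ }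
  refine ⟨F, fun π => ?_⟩
  obtain ⟨g, hg, hgi⟩ := exists_moves hk Γ (π.toEmbedding.trans Γ)
  have htop := Sylow.normalizer_sup_eq_top P
  obtain ⟨n, hn, d, hd, hnd⟩ := mem_sup_of_normal_right.1
    (htop ▸ mem_top (⟨g, hg, π, hgi⟩ : gammaSet G Γ))
  set w : Equiv.Perm α := (n : Equiv.Perm α) with hw
  have hgam : ∀ i, w (Γ i) = Γ (π i) := by
    intro i
    have h1 : g = w * (d : Equiv.Perm α) := (congrArg Subtype.val hnd).symm
    have h2 := hgi i
    rw [h1, Equiv.Perm.mul_apply, hd i] at h2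
    exact h2
  have hconj : ∀ v ∈ R, w * v * w⁻¹ ∈ R ∧ w⁻¹ * v * w ∈ R := by
    intro v hv
    obtain ⟨b, hb, rfl⟩ := hv
    exact ⟨⟨n * b * n⁻¹, (mem_normalizer_iff.1 hn b).1 hb, rfl⟩,
      ⟨n⁻¹ * b * n, (mem_normalizer_iff''.1 hn b).1 hb, rfl⟩⟩
  have hwout : ∀ z, z ∉ Set.range Γ → w z ∉ Set.range Γ := by
    rintro z hz ⟨i, hi⟩
    refine hz ⟨π⁻¹ i, w.injective ?_⟩
    rw [hgam, ← Equiv.Perm.mul_apply, mul_inv_cancel, Equiv.Perm.one_apply, hi]
  choose x hx hxo using F.label_surj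
  have hlab : ∀ z, z ∉ Set.range Γ → o (w z) = o (w (x (o z))) := by
    intro z hz
    obtain ⟨v, hv, hvz⟩ := (horbit_iff (x (o z)) z (hx _) hz).1 (hxo _)
    refine ((horbit_iff _ _ (hwout _ (hx _)) (hwout _ hz)).2 ⟨_, (hconj v hv).1, ?_⟩).symm
    rw [Equiv.Perm.mul_apply, Equiv.Perm.mul_apply, ← Equiv.Perm.mul_apply w⁻¹ w,
      inv_mul_cancel, Equiv.Perm.one_apply, hvz]
  have hinj : Function.Injective fun i => o (w (x i)) := by
    intro i j hij
    obtain ⟨v, hv, hvz⟩ := (horbit_iff _ _ (hwout _ (hx i)) (hwout _ (hx j))).1 hij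
    rw [← hxo i, ← hxo j]
    exact (horbit_iff _ _ (hx i) (hx j)).2 ⟨_, (hconj v hv).2, by
      rw [Equiv.Perm.mul_apply, Equiv.Perm.mul_apply, hvz, ← Equiv.Perm.mul_apply,
        inv_mul_cancel, Equiv.Perm.one_apply]⟩
  exact ⟨Equiv.ofBijective _ (Finite.injective_iff_bijective.1 hinj), w,
    ⟨n.2.1, fun v hv => (hconj v hv).1, fun v hv => (hconj v hv).2, hgam, hlab⟩⟩

end Construction

variable [DecidableEq α] {G : Subgroup (Equiv.Perm α)}

theorem pow_three_eq_one : ∀ ρ : Equiv.Perm (Fin 3), Equiv.Perm.sign ρ = 1 → ρ ^ 3 = 1 := by decide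

theorem sq_eq_one_two : ∀ σ : Equiv.Perm (Fin 2), σ * σ = 1 := by decide

theorem even_comm_three : ∀ a b : Equiv.Perm (Fin 3),
    Equiv.Perm.sign a = 1 → Equiv.Perm.sign b = 1 → a * b = b * a := by decide

/-- **Degree `2r+3`.** -/
theorem alternating_le_two {r : ℕ} (hr : r.Prime) (hr5 : 5 ≤ r) (hcard : Fintype.card α = 2 * r + 3)
    (hprim : IsPreprimitive G α) (hA : G ≤ alternatingGroup α)
    (hk : IsMultiplyPretransitive G α 3) (hk1 : IsMultiplyPretransitive G α 4) :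
    alternatingGroup α ≤ G := by
  obtain ⟨Γ⟩ : Nonempty (Fin 3 ↪ α) :=
    Function.Embedding.nonempty_of_card_le (by rw [Fintype.card_fin]; omega)
  obtain ⟨F, hF⟩ := exists_frame (Γ := Γ) hr (by norm_num) (by omega) hcard hk hk1
  by_cases hno : F.NoSingle
  swap
  · simp only [Frame.NoSingle, not_forall] at hno
    obtain ⟨v, hv, i, hsup, hv1⟩ := hno
    exact F.alternating_le hr hprim (by omega) (by omega) hv hv1 i hsup
  obtain ⟨σ, w, hw⟩ := hF (Equiv.swap 0 1 * Equiv.swap 1 2)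
  obtain ⟨σ', t, ht⟩ := hF (Equiv.swap 0 1)
  have hy := hw.mul hw
  rw [sq_eq_one_two] at hy
  obtain ⟨g, hg, hfix, hgam⟩ :=
    F.exists_small hno le_rfl (by decide) hr hy ht
  set ρ : Equiv.Perm (Fin 3) := ⁅Equiv.swap (0 : Fin 3) 1, (Equiv.swap (0 : Fin 3) 1 * Equiv.swap 1 2) *
    (Equiv.swap (0 : Fin 3) 1 * Equiv.swap 1 2)⁆ with hρ
  change ∀ i, g (Γ i) = Γ ((ρ ^ r) i) at hgam
  have hg1 : g ≠ 1 := by
    intro h
    have h1 : ρ ^ r = 1 := by
      refine Equiv.ext fun i => Γ.injective ?_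
      rw [← hgam i, h]; rfl
    have h3 : ρ ^ 3 = 1 := by rw [hρ]; simp only [commutatorElement_def]; decide +kernel
    have : ρ ^ Nat.gcd r 3 = 1 := pow_gcd_eq_one.2 ⟨h1, h3⟩
    rw [show Nat.gcd r 3 = 1 from (Nat.coprime_primes hr Nat.prime_three).2 (by omega), pow_one] at this
    refine absurd this ?_
    rw [hρ]; simp only [commutatorElement_def]; decide +kernel
  have hsub : g.support ⊆ Finset.univ.map Γ := by
    intro z hz
    rw [Equiv.Perm.mem_support] at hz
    by_contra h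
    exact hz (hfix z (by simpa using h))
  have hle3 : g.support.card ≤ 3 := le_trans (Finset.card_le_card hsub) (by simp)
  have hne0 : g.support.card ≠ 0 := fun h => hg1 (Equiv.Perm.card_support_eq_zero.1 h)
  have hne2 : g.support.card ≠ 2 := fun h => by
    have h1 : Equiv.Perm.sign g = 1 := Equiv.Perm.mem_alternatingGroup.1 (hA hg)
    rw [(Equiv.Perm.card_support_eq_two.1 h).sign_eq] at h1
    exact absurd h1 (by decide)
  have hne1 := Equiv.Perm.card_support_ne_one g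
  exact Equiv.Perm.alternatingGroup_le_of_isPreprimitive_of_isThreeCycle_mem hprim
    (card_support_eq_three_iff.1 (by omega)) hg

/-- **Degree `3r+4`.** -/
theorem alternating_le_three {r : ℕ} (hr : r.Prime) (hr5 : 5 ≤ r)
    (hcard : Fintype.card α = 3 * r + 4) (hprim : IsPreprimitive G α)
    (hk : IsMultiplyPretransitive G α 4) (hk1 : IsMultiplyPretransitive G α 5) :
    alternatingGroup α ≤ G := by
  obtain ⟨Γ⟩ : Nonempty (Fin 4 ↪ α) :=
    Function.Embedding.nonempty_of_card_le (by rw [Fintype.card_fin]; omega)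
  obtain ⟨F, hF⟩ := exists_frame (Γ := Γ) hr (by norm_num) (by omega) hcard hk hk1
  by_cases hno : F.NoSingle
  swap
  · simp only [Frame.NoSingle, not_forall] at hno
    obtain ⟨v, hv, i, hsup, hv1⟩ := hno
    exact F.alternating_le hr hprim (by omega) (by omega) hv hv1 i hsup
  obtain ⟨σ1, w1, hw1⟩ := hF (Equiv.swap 0 1)
  obtain ⟨σ2, w2, hw2⟩ := hF (Equiv.swap 1 2)
  obtain ⟨σ3, w3, hw3⟩ := hF (Equiv.swap 2 3)
  have hy := (hw1.commutator hw2).commutator (hw2.commutator hw3)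
  have hsgn : ∀ a b : Equiv.Perm (Fin 3), Equiv.Perm.sign ⁅a, b⁆ = 1 := fun a b => by
    rw [map_commutatorElement]
    exact commutatorElement_eq_one_iff_mul_comm.2 (mul_comm _ _)
  rw [commutatorElement_eq_one_iff_mul_comm.2
    (even_comm_three _ _ (hsgn σ1 σ2) (hsgn σ2 σ3))] at hy
  obtain ⟨g, hg, hfix, hgam⟩ :=
    F.exists_small hno (by norm_num) (by decide) hr hy (hw1.commutator hw2)
  set a : Equiv.Perm (Fin 4) := Equiv.swap 0 1 with ha
  set b : Equiv.Perm (Fin 4) := Equiv.swap 1 2 with hb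
  set c : Equiv.Perm (Fin 4) := Equiv.swap 2 3 with hc
  set ρ : Equiv.Perm (Fin 4) := ⁅⁅a, b⁆, ⁅⁅a, b⁆, ⁅b, c⁆⁆⁆ with hρ
  have hρeq : ρ = Equiv.swap 0 2 * Equiv.swap 1 3 := by
    rw [hρ, ha, hb, hc]; simp only [commutatorElement_def]; decide +kernel
  have hρr : ρ ^ r = Equiv.swap 0 2 * Equiv.swap 1 3 := by
    obtain ⟨m, hm⟩ := hr.odd_of_ne_two (by omega)
    rw [hm, pow_succ, pow_mul,
      show ρ ^ 2 = 1 by rw [hρeq]; decide +kernel, one_pow, one_mul, hρeq]
  rw [hρr] at hgam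
  have hne : ∀ i j : Fin 4, i ≠ j → Γ i ≠ Γ j := fun i j h => Γ.injective.ne h
  have hgeq : g = Equiv.swap (Γ 0) (Γ 2) * Equiv.swap (Γ 1) (Γ 3) := by
    refine Equiv.ext fun z => ?_
    by_cases hz : z ∈ Set.range Γ
    · obtain ⟨i, rfl⟩ := hz
      rw [hgam i, Equiv.Perm.mul_apply, Equiv.Perm.mul_apply, Γ.injective.swap_apply,
        Γ.injective.swap_apply]
    · rw [hfix z hz, Equiv.Perm.mul_apply,
        Equiv.swap_apply_of_ne_of_ne (fun h => hz ⟨1, h.symm⟩) (fun h => hz ⟨3, h.symm⟩),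
        Equiv.swap_apply_of_ne_of_ne (fun h => hz ⟨0, h.symm⟩) (fun h => hz ⟨2, h.symm⟩)]
  obtain ⟨e, he⟩ : ∃ e, e ∉ Set.range Γ := by
    by_contra h
    push Not at h
    have := Fintype.card_le_of_surjective Γ h
    rw [Fintype.card_fin] at this
    omega
  have heΓ : ∀ i, Γ i ≠ e := fun i h => he ⟨i, h⟩
  obtain ⟨h, hh, hhi⟩ := exists_moves hk Γ ⟨fun i => if i = 3 then e else Γ i, by
    intro i j hij
    dsimp only at hij
    split_ifs at hij with hi hj hj
    · rw [hi, hj]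
    · exact absurd hij.symm (heΓ j)
    · exact absurd hij (heΓ i)
    · exact Γ.injective hij⟩
  have h0 : h (Γ 0) = Γ 0 := hhi 0
  have h1 : h (Γ 1) = Γ 1 := hhi 1
  have h2 : h (Γ 2) = Γ 2 := hhi 2
  have h3 : h (Γ 3) = e := hhi 3
  have hconj : h * g * h⁻¹ = Equiv.swap (Γ 0) (Γ 2) * Equiv.swap (Γ 1) e := by
    have : ∀ a b, h * Equiv.swap a b * h⁻¹ = Equiv.swap (h a) (h b) := fun a b =>
      (Equiv.swap_apply_apply h a b).symm
    rw [hgeq, show h * (Equiv.swap (Γ 0) (Γ 2) * Equiv.swap (Γ 1) (Γ 3)) * h⁻¹ =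
      (h * Equiv.swap (Γ 0) (Γ 2) * h⁻¹) * (h * Equiv.swap (Γ 1) (Γ 3) * h⁻¹) by group,
      this, this, h0, h1, h2, h3]
  have hprod : g * (h * g * h⁻¹) = Equiv.swap (Γ 1) (Γ 3) * Equiv.swap (Γ 1) e := by
    have hcm : Equiv.swap (Γ 1) (Γ 3) * Equiv.swap (Γ 0) (Γ 2) =
        Equiv.swap (Γ 0) (Γ 2) * Equiv.swap (Γ 1) (Γ 3) := by
      rw [Equiv.mul_swap_eq_swap_mul, Equiv.swap_apply_of_ne_of_ne (hne 0 1 (by decide))
        (hne 0 3 (by decide)), Equiv.swap_apply_of_ne_of_ne (hne 2 1 (by decide))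
        (hne 2 3 (by decide))]
    rw [hconj, hgeq, mul_assoc, ← mul_assoc (Equiv.swap (Γ 1) (Γ 3)), hcm, ← mul_assoc,
      ← mul_assoc, Equiv.swap_mul_self, one_mul]
  exact Equiv.Perm.alternatingGroup_le_of_isPreprimitive_of_isThreeCycle_mem hprim
    (hprod ▸ Equiv.Perm.isThreeCycle_swap_mul_swap_same (hne 1 3 (by decide)) (heΓ 1) (heΓ 3))
    (G.mul_mem hg (G.mul_mem (G.mul_mem hh hg) (G.inv_mem hh)))

end CfsgLib.TwinPrime
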