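import Cfsg.Agent.Lib.TwinPrime.Three
import Cfsg.Agent.Lib.PermGroup.IndexDegree
import Mathlib.GroupTheory.Index

/-!
# From three to five transitivity for twin primes
-/

set_option autoImplicit false

open MulAction Subgroup
open scoped Classical

namespace CfsgLib.TwinPrime

open CfsgLib.PermGroup

variable {α : Type*} [Fintype α] [DecidableEq α] {p : ℕ} [Fact p.Prime]

/-- The points outside a pair. -/
abbrev Rest (a b : α) : Type _ := {x : α // x ≠ a ∧ x ≠ b}

theorem card_rest {a b : α} (hab : a ≠ b) : Fintype.card (Rest a b) + 2 = Fintype.card α := by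
  rw [Fintype.card_subtype, show Finset.univ.filter (fun x => x ≠ a ∧ x ≠ b) =
    (Finset.univ.erase a).erase b by ext; simp [and_comm],
    Finset.card_erase_of_mem (Finset.mem_erase.2 ⟨hab.symm, Finset.mem_univ _⟩),
    Finset.card_erase_of_mem (Finset.mem_univ _), Finset.card_univ]
  have h2 : 1 < Fintype.card α := Fintype.one_lt_card_iff.2 ⟨a, b, hab⟩
  omega

/-- The setwise stabiliser of a pair. -/
def pairSet (G : Subgroup (Equiv.Perm α)) (a b : α) : Subgroup (Equiv.Perm α) where
  carrier := {g | g ∈ G ∧ ((g a = a ∧ g b = b) ∨ (g a = b ∧ g b = a))}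
  one_mem' := ⟨G.one_mem, Or.inl ⟨rfl, rfl⟩⟩
  mul_mem' := by
    rintro g h ⟨hg, hg'⟩ ⟨hh, hh'⟩
    refine ⟨G.mul_mem hg hh, ?_⟩
    rcases hg' with ⟨g1, g2⟩ | ⟨g1, g2⟩ <;> rcases hh' with ⟨k1, k2⟩ | ⟨k1, k2⟩ <;>
      simp [Equiv.Perm.mul_apply, g1, g2, k1, k2]
  inv_mem' := by
    rintro g ⟨hg, hg'⟩
    refine ⟨G.inv_mem hg, ?_⟩
    simp only [Equiv.Perm.inv_def, Equiv.symm_apply_eq]
    rcases hg' with ⟨g1, g2⟩ | ⟨g1, g2⟩
    · exact Or.inl ⟨g1.symm, g2.symm⟩
    · exact Or.inr ⟨g2.symm, g1.symm⟩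

/-- The pointwise stabiliser of a pair. -/
def pairFix (G : Subgroup (Equiv.Perm α)) (a b : α) : Subgroup (Equiv.Perm α) :=
  G ⊓ stabilizer (Equiv.Perm α) a ⊓ stabilizer (Equiv.Perm α) b

theorem mem_pairFix {G : Subgroup (Equiv.Perm α)} {a b : α} {g : Equiv.Perm α} :
    g ∈ pairFix G a b ↔ g ∈ G ∧ g a = a ∧ g b = b := by
  simp [pairFix, Subgroup.mem_inf, mem_stabilizer_iff, and_assoc]

theorem pairFix_le (G : Subgroup (Equiv.Perm α)) (a b : α) : pairFix G a b ≤ pairSet G a b :=
  fun _ hg => ⟨(mem_pairFix.1 hg).1, Or.inl (mem_pairFix.1 hg).2⟩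

theorem rest_stable {G : Subgroup (Equiv.Perm α)} {a b : α} {g : Equiv.Perm α}
    (hg : g ∈ pairSet G a b) (x : α) : (x ≠ a ∧ x ≠ b) ↔ (g x ≠ a ∧ g x ≠ b) := by
  have key : (x = a ∨ x = b) ↔ (g x = a ∨ g x = b) := by
    rcases hg.2 with ⟨g1, g2⟩ | ⟨g1, g2⟩
    · constructor
      · rintro (rfl | rfl)
        · exact Or.inl g1
        · exact Or.inr g2
      · rintro (h | h)
        · exact Or.inl (g.injective (h.trans g1.symm))
        · exact Or.inr (g.injective (h.trans g2.symm))
    · constructor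
      · rintro (rfl | rfl)
        · exact Or.inr g1
        · exact Or.inl g2
      · rintro (h | h)
        · exact Or.inr (g.injective (h.trans g2.symm))
        · exact Or.inl (g.injective (h.trans g1.symm))
  tauto

/-- The action on the rest. -/
noncomputable def restHom (G : Subgroup (Equiv.Perm α)) (a b : α) :
    pairSet G a b →* Equiv.Perm (Rest a b) where
  toFun g := (g : Equiv.Perm α).subtypePerm fun x => (rest_stable g.2 x).symm
  map_one' := by ext x; rfl
  map_mul' g h := by ext x; rfl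

theorem restHom_injective {G : Subgroup (Equiv.Perm α)} (hA : G ≤ alternatingGroup α) {a b : α}
    (hab : a ≠ b) : Function.Injective (restHom G a b) := by
  rw [injective_iff_map_eq_one]
  rintro ⟨g, hg⟩ h
  have hfix : ∀ x, x ≠ a → x ≠ b → g x = x := fun x hx hy =>
    congrArg Subtype.val (Equiv.Perm.congr_fun h ⟨x, hx, hy⟩)
  rcases hg.2 with ⟨g1, g2⟩ | ⟨g1, g2⟩
  · refine Subtype.ext (Equiv.ext fun x => ?_)
    by_cases hx : x = a
    · subst hx; simpa using g1
    by_cases hy : x = b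
    · subst hy; simpa using g2
    simpa using hfix x hx hy
  · exfalso
    have e : g = Equiv.swap a b := Equiv.ext fun x => by
      by_cases hx : x = a
      · subst hx; rw [g1, Equiv.swap_apply_left]
      by_cases hy : x = b
      · subst hy; rw [g2, Equiv.swap_apply_right]
      rw [hfix x hx hy, Equiv.swap_apply_of_ne_of_ne hx hy]
    have h' := hA hg.1
    rw [e, Equiv.Perm.mem_alternatingGroup, Equiv.Perm.sign_swap hab] at h'
    exact absurd h' (by decide)

/-- `Steps G k` moves a point outside `k` fixed points to any other. -/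
def MovesFour (G : Subgroup (Equiv.Perm α)) : Prop :=
  ∀ a b c x y : α, a ≠ b → a ≠ c → b ≠ c → x ≠ a → x ≠ b → x ≠ c → y ≠ a → y ≠ b → y ≠ c →
    ∃ g ∈ G, g a = a ∧ g b = b ∧ g c = c ∧ g x = y

/-- The five point analogue. -/
def MovesFive (G : Subgroup (Equiv.Perm α)) : Prop :=
  ∀ a b c d x y : α, a ≠ b → a ≠ c → b ≠ c → d ≠ a → d ≠ b → d ≠ c → x ≠ a → x ≠ b → x ≠ c →
    x ≠ d → y ≠ a → y ≠ b → y ≠ c → y ≠ d →
    ∃ g ∈ G, g a = a ∧ g b = b ∧ g c = c ∧ g d = d ∧ g x = y

variable {G : Subgroup (Equiv.Perm α)}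

theorem exists_five (h3 : IsMultiplyPretransitive G α 3) (h4 : MovesFour G) (h5 : MovesFive G)
    (x y : Fin 5 ↪ α) : ∃ g ∈ G, ∀ i, g (x i) = y i := by
  obtain ⟨g₁, h0, h1, h2⟩ := exists_smul_triple h3
    (x.injective.ne (show (0 : Fin 5) ≠ 1 by decide)) (x.injective.ne (show (0 : Fin 5) ≠ 2 by decide))
    (x.injective.ne (show (1 : Fin 5) ≠ 2 by decide)) (y.injective.ne (show (0 : Fin 5) ≠ 1 by decide))
    (y.injective.ne (show (0 : Fin 5) ≠ 2 by decide)) (y.injective.ne (show (1 : Fin 5) ≠ 2 by decide))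
  have e0 : (g₁ : Equiv.Perm α) (x 0) = y 0 := h0
  have e1 : (g₁ : Equiv.Perm α) (x 1) = y 1 := h1
  have e2 : (g₁ : Equiv.Perm α) (x 2) = y 2 := h2
  have ne1 : ∀ (i j : Fin 5) (g : Equiv.Perm α) (z : α), g (x j) = z → i ≠ j → g (x i) ≠ z :=
    fun i j g z hz hij h => hij (x.injective (g.injective (h.trans hz.symm)))
  obtain ⟨g₂, hg₂, f0, f1, f2, f3⟩ := h4 (y 0) (y 1) (y 2) ((g₁ : Equiv.Perm α) (x 3)) (y 3)
    (y.injective.ne (by decide)) (y.injective.ne (by decide)) (y.injective.ne (by decide))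
    (ne1 3 0 _ _ e0 (by decide)) (ne1 3 1 _ _ e1 (by decide)) (ne1 3 2 _ _ e2 (by decide))
    (y.injective.ne (by decide)) (y.injective.ne (by decide)) (y.injective.ne (by decide))
  set u := g₂ * (g₁ : Equiv.Perm α)
  have u0 : u (x 0) = y 0 := by simp [u, e0, f0]
  have u1 : u (x 1) = y 1 := by simp [u, e1, f1]
  have u2 : u (x 2) = y 2 := by simp [u, e2, f2]
  have u3 : u (x 3) = y 3 := by simp [u, f3]
  obtain ⟨g₃, hg₃, k0, k1, k2, k3, k4⟩ := h5 (y 0) (y 1) (y 2) (y 3) (u (x 4)) (y 4)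
    (y.injective.ne (by decide)) (y.injective.ne (by decide)) (y.injective.ne (by decide))
    (y.injective.ne (by decide)) (y.injective.ne (by decide)) (y.injective.ne (by decide))
    (ne1 4 0 _ _ u0 (by decide)) (ne1 4 1 _ _ u1 (by decide)) (ne1 4 2 _ _ u2 (by decide))
    (ne1 4 3 _ _ u3 (by decide))
    (y.injective.ne (by decide)) (y.injective.ne (by decide)) (y.injective.ne (by decide))
    (y.injective.ne (by decide))
  refine ⟨g₃ * u, G.mul_mem hg₃ (G.mul_mem hg₂ g₁.2), fun i => ?_⟩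
  rw [Equiv.Perm.mul_apply]
  fin_cases i
  · show g₃ (u (x 0)) = y 0; rw [u0, k0]
  · show g₃ (u (x 1)) = y 1; rw [u1, k1]
  · show g₃ (u (x 2)) = y 2; rw [u2, k2]
  · show g₃ (u (x 3)) = y 3; rw [u3, k3]
  · exact k4

/-- The stabiliser of two points is insoluble. -/
theorem pairFix_insoluble (hα : Fintype.card α = p) [IsPretransitive G α] (P : Sylow p G)
    (hN : 2 * Nat.card (normalizer ((P : Subgroup G) : Set G)) = p * (p - 1))
    (h3 : IsMultiplyPretransitive G α 3) (hA : G ≤ alternatingGroup α) {q : ℕ} [Fact q.Prime]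
    (hpq : p = q + 2) (hp13 : 13 ≤ p) {a b : α} (hab : a ≠ b) :
    IsPretransitive ((pairFix G a b).subgroupOf (pairSet G a b) |>.map (restHom G a b)) (Rest a b) ∧
    ¬ Group.IsSolvable ((pairFix G a b).subgroupOf (pairSet G a b) |>.map (restHom G a b)) := by
  set D' := (pairFix G a b).subgroupOf (pairSet G a b) |>.map (restHom G a b) with hD'
  have hq : Fintype.card (Rest a b) = q := by have := card_rest hab; omega
  have htr : IsPretransitive D' (Rest a b) := ⟨fun x y => by
    obtain ⟨g, g0, g1, g2⟩ := exists_smul_triple h3 hab x.2.1.symm x.2.2.symm hab y.2.1.symm y.2.2.symm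
    have hgm : (g : Equiv.Perm α) ∈ pairFix G a b := mem_pairFix.2 ⟨g.2, g0, g1⟩
    exact ⟨⟨_, mem_map_of_mem _ (show (⟨_, pairFix_le G a b hgm⟩ : pairSet G a b) ∈
      (pairFix G a b).subgroupOf (pairSet G a b) from hgm)⟩, Subtype.ext g2⟩⟩
  refine ⟨htr, fun hsol => ?_⟩
  obtain ⟨e', -, haff⟩ := affine_of_solvable hq D' hsol
  -- the orders
  set c : α := (e' 0).1 with hcdef
  let Dc : Subgroup G := stabilizer G a ⊓ stabilizer G b ⊓ stabilizer G c
  set d := Nat.card Dc
  have hca : c ≠ a := (e' 0).2.1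
  have hcb : c ≠ b := (e' 0).2.2
  -- `d` divides `q - 1`
  have hin : ∀ g : Dc, (((g : G) : Equiv.Perm α) ∈ pairFix G a b) := fun g =>
    mem_pairFix.2 ⟨(g : G).2, g.2.1.1, g.2.1.2⟩
  let φ : Dc → D' := fun g => ⟨_, mem_map_of_mem _
    (show (⟨_, pairFix_le G a b (hin g)⟩ : pairSet G a b) ∈
      (pairFix G a b).subgroupOf (pairSet G a b) from hin g)⟩
  have hφ0 : ∀ g : Dc, (φ g : Equiv.Perm (Rest a b)) (e' 0) = e' 0 := fun g => Subtype.ext g.2.2
  choose K V hKV using fun g : Dc => haff _ (φ g).2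
  have hV : ∀ g, V g = 0 := fun g => by
    have h := hKV g 0
    rw [hφ0, mul_zero, zero_add] at h
    exact (e'.injective h).symm
  have hK : ∀ g, K g ≠ 0 := fun g h => by
    have h0 := hKV g 0
    have h1 := hKV g 1
    rw [h, zero_mul] at h0 h1
    exact one_ne_zero (e'.injective ((φ g : Equiv.Perm (Rest a b)).injective (h1.trans h0.symm)))
  let κ : Dc →* (ZMod q)ˣ :=
    MonoidHom.toHomUnits
      { toFun := K
        map_one' := by
          have h := hKV 1 1
          have h1 : (φ 1 : Equiv.Perm (Rest a b)) (e' 1) = e' 1 := rfl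
          rw [h1, hV, add_zero, mul_one] at h
          exact (e'.injective h).symm
        map_mul' := fun g g' => by
          have h := hKV (g * g') 1
          have h1 : (φ (g * g') : Equiv.Perm (Rest a b)) (e' 1) =
              (φ g : Equiv.Perm (Rest a b)) ((φ g' : Equiv.Perm (Rest a b)) (e' 1)) := rfl
          rw [h1, hKV, hKV, hV, hV, hV, add_zero, add_zero, add_zero, mul_one, mul_one] at h
          exact (e'.injective h).symm }
  have hκ : Function.Injective κ := by
    intro g g' h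
    have hk : K g = K g' := congrArg Units.val h
    have hperm : (φ g : Equiv.Perm (Rest a b)) = φ g' := by
      refine Equiv.ext fun x => ?_
      obtain ⟨j, rfl⟩ := e'.surjective x
      rw [hKV, hKV, hk, hV, hV]
    have := restHom_injective hA hab hperm
    exact Subtype.ext (Subtype.ext (congrArg (fun z : pairSet G a b => (z : Equiv.Perm α)) this))
  have hdq : d ∣ p - 3 := by
    have h := Subgroup.card_dvd_of_injective κ hκ
    rwa [Nat.card_units, Nat.card_zmod, show q - 1 = p - 3 by omega] at h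
  -- the order of the group
  have hcardG : Nat.card G = p * (p - 1) * q * d := by
    have i1 : (stabilizer G a).index = p := by
      rw [index_stabilizer_of_transitive, Nat.card_eq_fintype_card, hα]
    have o2 : orbit (stabilizer G a) b = {x | x ≠ a} := by
      ext x
      simp only [Set.mem_ofPred_eq]
      constructor
      · rintro ⟨g, rfl⟩ h
        exact hab.symm (smul_left_cancel (g : G) (h.trans g.2.symm))
      · intro hx
        obtain ⟨z, hz⟩ : ∃ z, z ≠ a ∧ z ≠ b := ⟨c, hca, hcb⟩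
        by_cases hxb : x = b
        · subst hxb; exact mem_orbit_self _
        · obtain ⟨w, hw⟩ : ∃ w : α, w ≠ a ∧ w ≠ x := by
            by_cases hzx : z = x
            · exact ⟨b, hab.symm, Ne.symm hxb⟩
            · exact ⟨z, hz.1, hzx⟩
          obtain ⟨g, g0, g1, -⟩ := exists_smul_triple h3 hab hca.symm hcb.symm (Ne.symm hx) hw.1.symm hw.2.symm
          exact ⟨⟨g, g0⟩, g1⟩
    have o3 : orbit (stabilizer G a ⊓ stabilizer G b : Subgroup G) c = {x | x ≠ a ∧ x ≠ b} := by
      ext x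
      simp only [Set.mem_ofPred_eq]
      constructor
      · rintro ⟨g, rfl⟩
        exact ⟨fun h => hca (smul_left_cancel (g : G) (h.trans g.2.1.symm)),
          fun h => hcb (smul_left_cancel (g : G) (h.trans g.2.2.symm))⟩
      · intro hx
        obtain ⟨g, g0, g1, g2⟩ := exists_smul_triple h3 hab hca.symm hcb.symm hab hx.1.symm hx.2.symm
        exact ⟨⟨g, g0, g1⟩, g2⟩
    have e2 : Nat.card (stabilizer G a) =
        (p - 1) * Nat.card (stabilizer G a ⊓ stabilizer G b : Subgroup G) := by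
      have h := (stabilizer (stabilizer G a) b).card_mul_index
      rw [index_stabilizer, o2] at h
      rw [← h, mul_comm]
      congr 1
      · rw [Set.ncard_eq_toFinset_card', show ({x | x ≠ a} : Set α).toFinset = Finset.univ.erase a by
          ext; simp, Finset.card_erase_of_mem (Finset.mem_univ _), Finset.card_univ, hα]
      · exact Nat.card_congr
          { toFun := fun g => ⟨(g.1 : G), g.1.2, g.2⟩
            invFun := fun g => ⟨⟨g.1, g.2.1⟩, g.2.2⟩
            left_inv := fun _ => rfl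
            right_inv := fun _ => rfl }
    have e3 : Nat.card (stabilizer G a ⊓ stabilizer G b : Subgroup G) = q * d := by
      have h := (stabilizer (stabilizer G a ⊓ stabilizer G b : Subgroup G) c).card_mul_index
      rw [index_stabilizer, o3] at h
      rw [← h, mul_comm]
      congr 1
      · rw [← hq, ← Nat.card_eq_fintype_card]
        rfl
      · exact Nat.card_congr
          { toFun := fun g => ⟨(g.1 : G), g.1.2, g.2⟩
            invFun := fun g => ⟨⟨g.1, g.2.1⟩, g.2.2⟩
            left_inv := fun _ => rfl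
            right_inv := fun _ => rfl }
    rw [← (stabilizer G a).card_mul_index, i1, e2, e3]
    ring
  obtain ⟨δ, -, hδN, hδG, hδ1⟩ := sylow_data hα G P
  set n := Nat.card (Sylow p G)
  have hn : n = 2 * (q * d) := by
    have h1 : 2 * Nat.card G = p * (p - 1) * n := by
      rw [hδG, ← hδN, ← hN]; ring
    rw [hcardG] at h1
    have hpos : 0 < p * (p - 1) := Nat.mul_pos (by omega) (by omega)
    refine (Nat.eq_of_mul_eq_mul_left hpos ?_).symm
    rw [← h1]; ring
  have hmod : ((4 * d + 1 : ℕ) : ZMod p) = 0 := by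
    have h := (ZMod.natCast_eq_natCast_iff n 1 p).2 hδ1
    rw [hn] at h
    have hq2 : ((q : ZMod p)) = -2 := by
      have : ((q + 2 : ℕ) : ZMod p) = 0 := by rw [← hpq]; exact ZMod.natCast_self p
      push_cast at this
      linear_combination this
    push_cast at h ⊢
    rw [hq2] at h
    linear_combination -h
  obtain ⟨j, hj⟩ := (ZMod.natCast_eq_zero_iff _ p).1 hmod
  obtain ⟨m, hm⟩ := hdq
  have hj1 : 1 ≤ j := by
    rcases Nat.eq_zero_or_pos j with h | h
    · subst h; omega
    · exact h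
  have hmle : m ≤ p - 3 := by
    have hd0 : 0 < d := Nat.card_pos
    rw [hm]; exact Nat.le_mul_of_pos_left m hd0
  have key : 4 * (p - 3) + m = p * (j * m) := by
    rw [hm, ← mul_assoc p, ← hj]; ring
  rcases Nat.lt_or_ge (j * m) 5 with h | h
  · have hmj : m ≤ j * m := Nat.le_mul_of_pos_left m hj1
    interval_cases (j * m) <;> omega
  · have : 5 * p ≤ p * (j * m) := by rw [mul_comm 5]; exact Nat.mul_le_mul_left p h
    omega

/-- **From three to five transitivity.** -/
theorem five_moves (hα : Fintype.card α = p) [IsPretransitive G α] (P : Sylow p G)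
    (hN : 2 * Nat.card (normalizer ((P : Subgroup G) : Set G)) = p * (p - 1))
    (h3 : IsMultiplyPretransitive G α 3) (hA : G ≤ alternatingGroup α) {q : ℕ} [Fact q.Prime]
    (hpq : p = q + 2) (hp13 : 13 ≤ p) : MovesFour G ∧ MovesFive G := by
  have step : ∀ a b : α, a ≠ b →
      IsMultiplyPretransitive
        ((pairFix G a b).subgroupOf (pairSet G a b) |>.map (restHom G a b)) (Rest a b) 2 ∧
      IsMultiplyPretransitive (restHom G a b).range (Rest a b) 3 := by
    intro a b hab
    have hq : Fintype.card (Rest a b) = q := by have := card_rest hab; omega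
    obtain ⟨htr, hins⟩ := pairFix_insoluble hα P hN h3 hA hpq hp13 hab
    set D' := (pairFix G a b).subgroupOf (pairSet G a b) |>.map (restHom G a b) with hD'
    refine ⟨two_transitive_of_insoluble hq D' hins, ?_⟩
    set H' := (restHom G a b).range
    have hle : D' ≤ H' := map_le_range _ _
    haveI : IsPretransitive H' (Rest a b) := ⟨fun x y => by
      obtain ⟨g, hg⟩ := exists_smul_eq D' x y
      exact ⟨⟨g, hle g.2⟩, hg⟩⟩
    have hinsH : ¬ Group.IsSolvable H' := fun h => hins
      (Group.isSolvable_of_isSolvable_injective (f := Subgroup.inclusion hle)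
        (Subgroup.inclusion_injective hle))
    set K : Subgroup H' := D'.subgroupOf H'
    obtain ⟨w, hwf⟩ : ∃ w : pairSet G a b, (w : Equiv.Perm α) a = b := by
      obtain ⟨g, g0, g1⟩ := (is_two_pretransitive_iff (G := G) (α := α)).1
        (isMultiplyPretransitive_of_le (n := 3) (by norm_num) (by rw [Nat.card_eq_fintype_card, hα]; omega)) hab hab.symm
      exact ⟨⟨g, g.2, Or.inr ⟨g0, g1⟩⟩, g0⟩
    have hmemK : ∀ g : pairSet G a b, (⟨restHom G a b g, g, rfl⟩ : H') ∈ K ↔
        (g : Equiv.Perm α) a = a := by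
      intro g
      rw [mem_subgroupOf]
      constructor
      · rintro ⟨g', hg', h⟩
        have := restHom_injective hA hab h
        subst this
        exact (mem_pairFix.1 hg').2.1
      · intro hga
        refine ⟨g, mem_pairFix.2 ⟨g.2.1, hga, ?_⟩, rfl⟩
        rcases g.2.2 with h | h
        · exact h.2
        · exact absurd (h.1.symm.trans hga) hab.symm
    haveI hKn : K.Normal := by
      refine ⟨fun x hx g => ?_⟩
      obtain ⟨⟨x', hx'⟩, hxx⟩ : ∃ x' : pairSet G a b, restHom G a b x' = x := x.2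
      obtain ⟨⟨g', hg'⟩, hgg⟩ : ∃ g' : pairSet G a b, restHom G a b g' = g := g.2
      have hx0 : x' a = a := (hmemK ⟨x', hx'⟩).1 (by convert hx using 2; exact Subtype.ext hxx)
      have hx1 : x' b = b := by
        rcases hx'.2 with h | h
        · exact h.2
        · exact absurd (h.1.symm.trans hx0) hab.symm
      have e : g * x * g⁻¹ = ⟨restHom G a b (⟨g', hg'⟩ * ⟨x', hx'⟩ * ⟨g', hg'⟩⁻¹), _, rfl⟩ := by
        refine Subtype.ext ?_
        simp only [map_mul, map_inv, Subgroup.coe_mul, Subgroup.coe_inv, hxx, hgg]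
      rw [e, hmemK]
      show g' (x' (g'⁻¹ a)) = a
      rcases (inv_mem (show g' ∈ pairSet G a b from hg')).2 with h | h
      · rw [h.1, hx0]
        conv_lhs => rw [← h.1]
        exact Equiv.apply_symm_apply g' a
      · rw [h.1, hx1]
        conv_lhs => rw [← h.1]
        exact Equiv.apply_symm_apply g' a
    have hwK : (⟨restHom G a b w, w, rfl⟩ : H') ∉ K := fun h => hab ((hmemK w).1 h ▸ hwf)
    have hsqK : ∀ n : H', n * n ∈ K := by
      rintro ⟨-, n', rfl⟩
      have e : (⟨restHom G a b n', n', rfl⟩ * ⟨restHom G a b n', n', rfl⟩ : H') =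
          ⟨restHom G a b (n' * n'), _, rfl⟩ := Subtype.ext (map_mul _ _ _).symm
      rw [e, hmemK]
      show (n' : Equiv.Perm α) ((n' : Equiv.Perm α) a) = a
      rcases n'.2.2 with h | h
      · rw [h.1, h.1]
      · rw [h.1, h.2]
    let Q : Sylow q H' := default
    have hQK : (Q : Subgroup H') ≤ K := by
      intro x hx
      obtain ⟨k, hk⟩ := IsPGroup.iff_orderOf.mp Q.isPGroup' ⟨x, hx⟩
      rw [Subgroup.orderOf_mk] at hk
      have hodd : Odd (orderOf x) := hk ▸ ((Fact.out : q.Prime).odd_of_ne_two (by omega)).pow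
      obtain ⟨t, ht⟩ := hodd
      have h1 : x ^ (2 * t + 1) = 1 := ht ▸ pow_orderOf_eq_one x
      rw [pow_succ, pow_mul, mul_eq_one_iff_eq_inv] at h1
      have h2 : (x ^ 2) ^ t ∈ K := K.pow_mem (sq x ▸ hsqK x) t
      rw [h1] at h2
      exact inv_mem_iff.1 h2
    have heven : Even (Nat.card (normalizer ((Q : Subgroup H') : Set H'))) := by
      set N := normalizer ((Q : Subgroup H') : Set H')
      obtain ⟨n, hnN, hnK⟩ : ∃ n ∈ N, n ∉ K := by
        by_contra h
        push Not at h
        have htop : N ⊔ K = ⊤ := Sylow.normalizer_sup_eq_top' Q hQK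
        rw [sup_eq_right.2 h] at htop
        exact hwK (htop ▸ mem_top _)
      by_contra hodd
      rw [Nat.not_even_iff_odd] at hodd
      obtain ⟨t, ht⟩ := hodd.of_dvd_nat (orderOf_dvd_natCard N hnN)
      have h1 : n ^ (2 * t + 1) = 1 := ht ▸ pow_orderOf_eq_one n
      rw [pow_succ, pow_mul, mul_eq_one_iff_eq_inv] at h1
      have h2 : (n ^ 2) ^ t ∈ K := K.pow_mem (sq n ▸ hsqK n) t
      rw [h1] at h2
      exact hnK (inv_mem_iff.1 h2)
    exact three_transitive_of_even hq H' hinsH Q heven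
  have h4 : MovesFour G := by
    intro a b c x y hab hac hbc hxa hxb hxc hya hyb hyc
    obtain ⟨⟨-, g', hg', rfl⟩, hc, hxy⟩ := (is_two_pretransitive_iff (α := Rest a b)).1 (step a b hab).1
      (show (⟨c, hac.symm, hbc.symm⟩ : Rest a b) ≠ ⟨x, hxa, hxb⟩ from
        fun h => hxc (congrArg Subtype.val h).symm)
      (show (⟨c, hac.symm, hbc.symm⟩ : Rest a b) ≠ ⟨y, hya, hyb⟩ from
        fun h => hyc (congrArg Subtype.val h).symm)
    obtain ⟨h1, h2, h3'⟩ := mem_pairFix.1 (hg' : (g' : Equiv.Perm α) ∈ pairFix G a b)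
    exact ⟨g', h1, h2, h3', congrArg Subtype.val hc, congrArg Subtype.val hxy⟩
  refine ⟨h4, ?_⟩
  intro a b c d x y hab hac hbc hda hdb hdc hxa hxb hxc hxd hya hyb hyc hyd
  set S : Finset α := ((((Finset.univ.erase a).erase b).erase c).erase d) with hS
  have hSmem : ∀ z, z ∈ S ↔ z ≠ a ∧ z ≠ b ∧ z ≠ c ∧ z ≠ d := fun z => by
    simp [hS]; tauto
  let D : Subgroup G := stabilizer G a ⊓ stabilizer G b ⊓ stabilizer G c ⊓ stabilizer G d
  suffices h : y ∈ orbit D x by
    obtain ⟨⟨g, hg⟩, rfl⟩ := h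
    exact ⟨g, g.2, hg.1.1.1, hg.1.1.2, hg.1.2, hg.2, rfl⟩
  by_contra hy
  have move : ∀ z ∈ S, ∀ z' ∈ S, z' ∈ orbit D z ∨
      ∃ g : G, (g : Equiv.Perm α) a = b ∧ (g : Equiv.Perm α) b = a ∧ (g : Equiv.Perm α) c = c ∧
        (g : Equiv.Perm α) d = d ∧ (g : Equiv.Perm α) z = z' := by
    intro z hz z' hz'
    rw [hSmem] at hz hz'
    obtain ⟨⟨-, g, rfl⟩, hc, hd, hzz⟩ := exists_smul_triple (step a b hab).2
      (a := (⟨c, hac.symm, hbc.symm⟩ : Rest a b)) (b := ⟨d, hda, hdb⟩) (c := ⟨z, hz.1, hz.2.1⟩)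
      (a' := ⟨c, hac.symm, hbc.symm⟩) (b' := ⟨d, hda, hdb⟩) (c' := ⟨z', hz'.1, hz'.2.1⟩)
      (fun h => hdc (congrArg Subtype.val h).symm) (fun h => hz.2.2.1 (congrArg Subtype.val h).symm)
      (fun h => hz.2.2.2 (congrArg Subtype.val h).symm)
      (fun h => hdc (congrArg Subtype.val h).symm) (fun h => hz'.2.2.1 (congrArg Subtype.val h).symm)
      (fun h => hz'.2.2.2 (congrArg Subtype.val h).symm)
    have ec : (g : Equiv.Perm α) c = c := congrArg Subtype.val hc
    have ed : (g : Equiv.Perm α) d = d := congrArg Subtype.val hd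
    have ez : (g : Equiv.Perm α) z = z' := congrArg Subtype.val hzz
    rcases g.2.2 with h | h
    · exact Or.inl ⟨⟨⟨g, g.2.1⟩, ⟨⟨h.1, h.2⟩, ec⟩, ed⟩, ez⟩
    · exact Or.inr ⟨⟨g, g.2.1⟩, h.1, h.2, ec, ed, ez⟩
  obtain ⟨h, ha, hb, hc, hd, hxy⟩ :=
    (move x ((hSmem x).2 ⟨hxa, hxb, hxc, hxd⟩) y ((hSmem y).2 ⟨hya, hyb, hyc, hyd⟩)).resolve_left hy
  set O : Finset α := Finset.univ.filter (· ∈ orbit D x) with hO
  have hOS : O ⊆ S := by
    intro z hz
    simp only [hO, Finset.mem_filter, Finset.mem_univ, true_and] at hz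
    obtain ⟨⟨g, hg⟩, rfl⟩ := hz
    rw [hSmem]
    exact ⟨fun e => hxa (smul_left_cancel g (e.trans hg.1.1.1.symm)),
      fun e => hxb (smul_left_cancel g (e.trans hg.1.1.2.symm)),
      fun e => hxc (smul_left_cancel g (e.trans hg.1.2.symm)),
      fun e => hxd (smul_left_cancel g (e.trans hg.2.symm))⟩
  have hhS : ∀ z, z ∈ S ↔ (h : Equiv.Perm α) z ∈ S := by
    intro z
    rw [hSmem, hSmem]
    have i := (h : Equiv.Perm α).injective
    constructor
    · rintro ⟨z1, z2, z3, z4⟩
      exact ⟨fun e => z2 (i (e.trans hb.symm)), fun e => z1 (i (e.trans ha.symm)),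
        fun e => z3 (i (e.trans hc.symm)), fun e => z4 (i (e.trans hd.symm))⟩
    · rintro ⟨z1, z2, z3, z4⟩
      exact ⟨fun e => z2 (e ▸ ha), fun e => z1 (e ▸ hb), fun e => z3 (e ▸ hc), fun e => z4 (e ▸ hd)⟩
  have hdecomp : S = O ∪ O.map (h : Equiv.Perm α).toEmbedding := by
    ext z
    constructor
    · intro hz
      rw [Finset.mem_union]
      rcases move x ((hSmem x).2 ⟨hxa, hxb, hxc, hxd⟩) z hz with h' | ⟨g, ga, gb, gc, gd, gx⟩
      · exact Or.inl (by simp [hO, h'])
      · refine Or.inr (Finset.mem_map.2 ⟨(h : Equiv.Perm α)⁻¹ z, ?_, by simp⟩)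
        simp only [hO, Finset.mem_filter, Finset.mem_univ, true_and]
        refine ⟨⟨h⁻¹ * g, ⟨⟨?_, ?_⟩, ?_⟩, ?_⟩, ?_⟩
        · show (h : Equiv.Perm α)⁻¹ ((g : Equiv.Perm α) a) = a
          rw [ga, ← ha]; simp
        · show (h : Equiv.Perm α)⁻¹ ((g : Equiv.Perm α) b) = b
          rw [gb, ← hb]; simp
        · show (h : Equiv.Perm α)⁻¹ ((g : Equiv.Perm α) c) = c
          rw [gc]; conv_lhs => rw [← hc]
          simp
        · show (h : Equiv.Perm α)⁻¹ ((g : Equiv.Perm α) d) = d
          rw [gd]; conv_lhs => rw [← hd]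
          simp
        · show (h : Equiv.Perm α)⁻¹ ((g : Equiv.Perm α) x) = _
          rw [gx]
    · intro hz
      rw [Finset.mem_union, Finset.mem_map] at hz
      rcases hz with hz | ⟨w, hw, rfl⟩
      · exact hOS hz
      · exact (hhS w).1 (hOS hw)
  have hdisj : Disjoint O (O.map (h : Equiv.Perm α).toEmbedding) := by
    rw [Finset.disjoint_left]
    intro z hz hz'
    obtain ⟨w, hw, rfl⟩ := Finset.mem_map.1 hz'
    simp only [hO, Finset.mem_filter, Finset.mem_univ, true_and, Equiv.coe_toEmbedding] at hz hw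
    obtain ⟨⟨g, hg⟩, rfl⟩ := hw
    obtain ⟨⟨g', hg'⟩, hgz⟩ := hz
    have hg'z : g' • x = h • g • x := hgz
    let k : G := h * g⁻¹ * h⁻¹ * g'
    have gi : g⁻¹ ∈ D := inv_mem hg
    refine hy ⟨⟨k, ⟨⟨?_, ?_⟩, ?_⟩, ?_⟩, ?_⟩
    · show k • a = a
      simp only [k, mul_smul, show g' • a = a from hg'.1.1.1,
        show h⁻¹ • a = b from inv_smul_eq_iff.2 (show a = h • b from hb.symm),
        show g⁻¹ • b = b from gi.1.1.2, show h • b = a from hb]
    · show k • b = b
      simp only [k, mul_smul, show g' • b = b from hg'.1.1.2,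
        show h⁻¹ • b = a from inv_smul_eq_iff.2 (show b = h • a from ha.symm),
        show g⁻¹ • a = a from gi.1.1.1, show h • a = b from ha]
    · show k • c = c
      simp only [k, mul_smul, show g' • c = c from hg'.1.2,
        show h⁻¹ • c = c from inv_smul_eq_iff.2 (show c = h • c from hc.symm),
        show g⁻¹ • c = c from gi.1.2, show h • c = c from hc]
    · show k • d = d
      simp only [k, mul_smul, show g' • d = d from hg'.2,
        show h⁻¹ • d = d from inv_smul_eq_iff.2 (show d = h • d from hd.symm),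
        show g⁻¹ • d = d from gi.2, show h • d = d from hd]
    · show k • x = y
      simp only [k, mul_smul, hg'z, inv_smul_smul]
      exact hxy
  have hScard : S.card + 4 = p := by
    rw [hS, Finset.card_erase_of_mem, Finset.card_erase_of_mem, Finset.card_erase_of_mem,
      Finset.card_erase_of_mem (Finset.mem_univ _), Finset.card_univ, hα]
    · omega
    · simp [hab.symm]
    · simp [hac.symm, hbc.symm]
    · simp [hda, hdb, hdc]
  rw [hdecomp, Finset.card_union_of_disjoint hdisj, Finset.card_map] at hScard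
  have := (Fact.out : p.Prime).odd_of_ne_two (by omega)
  obtain ⟨t, ht⟩ := this
  omega

/-- **Five transitivity.** -/
theorem exists_five_of_twin (hα : Fintype.card α = p) (G : Subgroup (Equiv.Perm α))
    [IsPretransitive G α] (hG : ¬ Group.IsSolvable G) (P : Sylow p G)
    (hN : 2 * Nat.card (normalizer ((P : Subgroup G) : Set G)) = p * (p - 1))
    {q : ℕ} (hq : q.Prime) (hq5 : 5 < q) (hpq : p = q + 2) :
    G ≤ alternatingGroup α ∧ ∀ x y : Fin 5 ↪ α, ∃ g ∈ G, ∀ i, g (x i) = y i := by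
  haveI : Fact q.Prime := ⟨hq⟩
  have hp13 : 13 ≤ p := by
    by_contra h
    obtain ⟨k, hk⟩ := hq.odd_of_ne_two (by omega)
    rcases (show q = 7 ∨ q = 9 by omega) with h' | h'
    · exact absurd (Fact.out : p.Prime) (by rw [hpq, h']; norm_num)
    · exact absurd hq (by rw [h']; norm_num)
  obtain ⟨e, he, hA⟩ := exists_half hα (by omega) G P hN
  have h3 : IsMultiplyPretransitive G α 3 := by
    by_cases hneg : IsSquare (-1 : ZMod p)
    · refine three_transitive_of_even hα G hG P ?_
      have h4 : p % 4 ≠ 3 := ZMod.exists_sq_eq_neg_one_iff.1 hneg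
      obtain ⟨k, hk⟩ : ∃ k, p = 4 * k + 1 := by
        obtain ⟨t, ht⟩ := (Fact.out : p.Prime).odd_of_ne_two (by omega)
        exact ⟨p / 4, by omega⟩
      refine ⟨p * k, ?_⟩
      have hk' : p * (p - 1) = 4 * (p * k) := by
        rw [show p - 1 = 4 * k by omega]; ring
      omega
    · exact three_transitive hα G hG e he hneg hq hq5 hpq
  obtain ⟨h4, h5⟩ := five_moves hα P hN h3 hA hpq hp13
  exact ⟨hA, exists_five h3 h4 h5⟩

end CfsgLib.TwinPrime
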