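import Cfsg.Agent.S0713
import Mathlib.GroupTheory.Sylow
import Mathlib.GroupTheory.GroupAction.MultipleTransitivity
import Mathlib.GroupTheory.GroupAction.Primitive

/-!
# Frames: an `r`-subgroup with `s` orbits of size `r` outside `k` points
-/

set_option autoImplicit false

open MulAction Subgroup
open scoped Classical Pointwise commutatorElement

namespace CfsgLib.TwinPrime

variable {α : Type*}

/-- An `r`-group `R ≤ G` fixing the points `Γ` with `s` orbits of size `r` outside them. -/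
structure Frame (G : Subgroup (Equiv.Perm α)) (r s : ℕ) {k : ℕ} (Γ : Fin k ↪ α) where
  /-- the group -/
  R : Subgroup (Equiv.Perm α)
  /-- the labelling of the orbits -/
  o : α → Fin s
  le : R ≤ G
  fix : ∀ v ∈ R, ∀ i, v (Γ i) = Γ i
  pow_r : ∀ v ∈ R, v ^ r = 1
  move : ∀ z, z ∉ Set.range Γ → ∃ v ∈ R, v z ≠ z
  regular : ∀ v ∈ R, ∀ x, v x = x → ∀ u ∈ R, v (u x) = u x
  pow_eq : ∀ u ∈ R, ∀ x, u x ≠ x → ∀ v ∈ R, ∃ l : ℕ, v x = (u ^ l) x
  orbit_iff : ∀ z z', z ∉ Set.range Γ → z' ∉ Set.range Γ → (o z = o z' ↔ ∃ v ∈ R, v z = z')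
  label_surj : ∀ i, ∃ z, z ∉ Set.range Γ ∧ o z = i
  class_card : ∀ i, {z | z ∉ Set.range Γ ∧ o z = i}.ncard = r

namespace Frame

variable {G : Subgroup (Equiv.Perm α)} {r s k : ℕ} {Γ : Fin k ↪ α}

theorem out_mem (F : Frame G r s Γ) {v : Equiv.Perm α} (hv : v ∈ F.R) {z : α}
    (hz : z ∉ Set.range Γ) : v z ∉ Set.range Γ := by
  rintro ⟨i, hi⟩
  exact hz ⟨i, v.injective ((F.fix v hv i).trans hi)⟩

theorem label_mem (F : Frame G r s Γ) {v : Equiv.Perm α} (hv : v ∈ F.R) {z : α}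
    (hz : z ∉ Set.range Γ) : F.o (v z) = F.o z :=
  ((F.orbit_iff z (v z) hz (F.out_mem hv hz)).2 ⟨v, hv, rfl⟩).symm

theorem comm (F : Frame G r s Γ) {u v : Equiv.Perm α} (hu : u ∈ F.R) (hv : v ∈ F.R) (z : α) :
    u (v z) = v (u z) := by
  by_cases h : u z = z
  · rw [F.regular u hu z h v hv, h]
  · obtain ⟨l, hl⟩ := F.pow_eq u hu z h v hv
    have hfix : ((u ^ l)⁻¹ * v) z = z := by simp [hl]
    have h2 := F.regular _ (mul_mem (inv_mem (pow_mem hu l)) hv) z hfix u hu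
    have h3 : v (u z) = (u ^ l) (u z) := by
      have := congrArg (u ^ l) h2
      simpa using this
    rw [h3, hl, ← Equiv.Perm.mul_apply, ← Equiv.Perm.mul_apply, ← pow_succ', ← pow_succ]

theorem pow_succ_apply (F : Frame G r s Γ) {u v : Equiv.Perm α} (hu : u ∈ F.R) (hv : v ∈ F.R)
    {z : α} {m : ℕ} (hm : v z = (u ^ m) z) : ∀ n : ℕ, (v ^ n) z = ((u ^ m) ^ n) z := by
  intro n
  induction n with
  | zero => simp
  | succ n ih =>
    rw [pow_succ', Equiv.Perm.mul_apply, ih, F.comm hv (pow_mem (pow_mem hu m) n), hm,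
      ← Equiv.Perm.mul_apply, ← pow_succ]

/-- Jordan's case: an element of `R` living on one orbit. -/
theorem alternating_le (F : Frame G r s Γ) [Fintype α] [DecidableEq α] (hr : r.Prime)
    (hprim : IsPreprimitive G α) (h5 : 5 ≤ Fintype.card α) (hr3 : r + 3 ≤ Fintype.card α)
    {v : Equiv.Perm α} (hv : v ∈ F.R) (hv1 : v ≠ 1) (i : Fin s)
    (hsup : ∀ z, z ∉ Set.range Γ → F.o z ≠ i → v z = z) : alternatingGroup α ≤ G := by
  haveI : Fact r.Prime := ⟨hr⟩
  have hord : orderOf v = r := orderOf_eq_prime (F.pow_r v hv) hv1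
  have hle : v.support.card ≤ r := by
    rw [← F.class_card i, ← Set.ncard_coe_finset]
    refine Set.ncard_le_ncard (fun z hz => ?_) (Set.toFinite _)
    rw [Finset.mem_coe, Equiv.Perm.mem_support] at hz
    have hout : z ∉ Set.range Γ := fun ⟨j, hj⟩ => hz (hj ▸ F.fix v hv j)
    exact ⟨hout, by_contra fun hne => hz (hsup z hout hne)⟩
  have hcyc : v.IsCycle := Equiv.Perm.isCycle_of_prime_order (hord ▸ hr)
    (by rw [hord]; have := hr.two_le; omega)
  exact Cfsg.Agent.S0713.result G hprim hr h5 hr3 hcyc (hcyc.orderOf.symm.trans hord) (F.le hv)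

/-- No element of `R` lives on a single orbit. -/
def NoSingle (F : Frame G r s Γ) : Prop :=
  ∀ v ∈ F.R, ∀ i, (∀ z, z ∉ Set.range Γ → F.o z ≠ i → v z = z) → v = 1

/-- `w` normalises the frame, inducing `π` on `Γ` and `σ` on the orbits. -/
structure Lift (F : Frame G r s Γ) (π : Equiv.Perm (Fin k)) (σ : Equiv.Perm (Fin s))
    (w : Equiv.Perm α) : Prop where
  mem : w ∈ G
  conj : ∀ v ∈ F.R, w * v * w⁻¹ ∈ F.R
  conj_inv : ∀ v ∈ F.R, w⁻¹ * v * w ∈ F.R
  gam : ∀ i, w (Γ i) = Γ (π i)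
  lab : ∀ z, z ∉ Set.range Γ → F.o (w z) = σ (F.o z)

namespace Lift

variable {F : Frame G r s Γ} {π π' : Equiv.Perm (Fin k)} {σ σ' : Equiv.Perm (Fin s)}
  {w w' : Equiv.Perm α}

theorem out (h : F.Lift π σ w) {z : α} (hz : z ∉ Set.range Γ) : w z ∉ Set.range Γ := by
  rintro ⟨i, hi⟩
  refine hz ⟨π⁻¹ i, w.injective ?_⟩
  rw [h.gam, ← Equiv.Perm.mul_apply π π⁻¹, mul_inv_cancel, Equiv.Perm.one_apply, hi]

theorem inv_gam (h : F.Lift π σ w) (i : Fin k) : w⁻¹ (Γ i) = Γ (π⁻¹ i) := by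
  apply w.injective
  rw [h.gam, ← Equiv.Perm.mul_apply w w⁻¹, ← Equiv.Perm.mul_apply π π⁻¹, mul_inv_cancel,
    mul_inv_cancel, Equiv.Perm.one_apply, Equiv.Perm.one_apply]

theorem mul (h : F.Lift π σ w) (h' : F.Lift π' σ' w') : F.Lift (π * π') (σ * σ') (w * w') where
  mem := G.mul_mem h.mem h'.mem
  conj v hv := by
    have := h.conj _ (h'.conj v hv)
    rw [show w * w' * v * (w * w')⁻¹ = w * (w' * v * w'⁻¹) * w⁻¹ by group]
    exact this
  conj_inv v hv := by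
    have := h'.conj_inv _ (h.conj_inv v hv)
    rw [show (w * w')⁻¹ * v * (w * w') = w'⁻¹ * (w⁻¹ * v * w) * w' by group]
    exact this
  gam i := by rw [Equiv.Perm.mul_apply, h'.gam, h.gam]; rfl
  lab z hz := by rw [Equiv.Perm.mul_apply, h.lab _ (h'.out hz), h'.lab z hz]; rfl

theorem inv (h : F.Lift π σ w) : F.Lift π⁻¹ σ⁻¹ w⁻¹ where
  mem := G.inv_mem h.mem
  conj v hv := by rw [inv_inv]; exact h.conj_inv v hv
  conj_inv v hv := by rw [inv_inv]; exact h.conj v hv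
  gam := h.inv_gam
  lab z hz := by
    have hz' : w⁻¹ z ∉ Set.range Γ := by
      rintro ⟨i, hi⟩
      refine hz ⟨π i, ?_⟩
      rw [← h.gam, hi, ← Equiv.Perm.mul_apply, mul_inv_cancel, Equiv.Perm.one_apply]
    have h1 := h.lab _ hz'
    rw [← Equiv.Perm.mul_apply w w⁻¹, mul_inv_cancel, Equiv.Perm.one_apply] at h1
    rw [h1, ← Equiv.Perm.mul_apply σ⁻¹ σ, inv_mul_cancel, Equiv.Perm.one_apply]

theorem commutator (h : F.Lift π σ w) (h' : F.Lift π' σ' w') :
    F.Lift ⁅π, π'⁆ ⁅σ, σ'⁆ ⁅w, w'⁆ := by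
  rw [commutatorElement_def, commutatorElement_def, commutatorElement_def]
  exact ((h.mul h').mul h.inv).mul h'.inv

theorem pow (h : F.Lift π σ w) : ∀ n : ℕ, F.Lift (π ^ n) (σ ^ n) (w ^ n)
  | 0 => by
    simp only [pow_zero]
    exact ⟨G.one_mem, fun v hv => by simpa using hv, fun v hv => by simpa using hv,
      fun _ => rfl, fun _ _ => rfl⟩
  | n + 1 => by
    rw [pow_succ, pow_succ, pow_succ]
    exact (h.pow n).mul h

end Lift

/-- An element fixing every orbit acts on `R` as a scalar. -/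
theorem scalar (F : Frame G r s Γ) (hno : F.NoSingle) (hs2 : 2 ≤ s)
    (hs3 : ∀ i j : Fin s, i ≠ j → ∀ m n : Fin s, m ≠ i → m ≠ j → n ≠ i → n ≠ j → m = n)
    {π : Equiv.Perm (Fin k)} {y : Equiv.Perm α} (hy : F.Lift π 1 y) (hr : r.Prime) :
    ∃ l : ℕ, ∀ v ∈ F.R, y * v * y⁻¹ = v ^ l := by
  haveI : Fact r.Prime := ⟨hr⟩
  -- the exponent on each orbit
  have hexp : ∀ i, ∃ l : ℕ, ∀ v ∈ F.R, ∀ z, z ∉ Set.range Γ → F.o z = i →
      (y * v * y⁻¹) z = (v ^ l) z := by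
    intro i
    obtain ⟨x, hx, hxi⟩ := F.label_surj i
    obtain ⟨u, hu, hux⟩ := F.move x hx
    obtain ⟨l, hl⟩ := F.pow_eq u hu x hux _ (hy.conj u hu)
    refine ⟨l, fun v hv z hz hzi => ?_⟩
    have hzy : y⁻¹ z ∉ Set.range Γ := hy.inv.out hz
    -- any two elements agreeing at one point of the orbit agree on all of it
    have agree : ∀ a ∈ F.R, ∀ b ∈ F.R, a x = b x → ∀ z', z' ∉ Set.range Γ → F.o z' = i →
        a z' = b z' := by
      intro a ha b hb hab z' hz' hz'i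
      obtain ⟨c, hc, rfl⟩ := (F.orbit_iff x z' hx hz').1 (hxi.trans hz'i.symm)
      rw [← F.comm hc ha, ← F.comm hc hb, hab]
    obtain ⟨m, hm⟩ := F.pow_eq u hu x hux v hv
    have h1 : v (y⁻¹ z) = (u ^ m) (y⁻¹ z) :=
      agree v hv _ (pow_mem hu m) hm _ hzy (by rw [hy.inv.lab z hz, inv_one]; exact hzi)
    have h2 : (y * v * y⁻¹) z = ((y * u * y⁻¹) ^ m) z := by
      rw [conj_pow, Equiv.Perm.mul_apply, Equiv.Perm.mul_apply, h1]; rfl
    have h3 : ((y * u * y⁻¹) ^ m) x = (v ^ l) x := by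
      rw [F.pow_succ_apply hu (hy.conj u hu) hl m, F.pow_succ_apply hu hv hm l, ← pow_mul,
        ← pow_mul, Nat.mul_comm]
    rw [h2]
    exact agree _ (pow_mem (hy.conj u hu) m) _ (pow_mem hv l) h3 z hz hzi
  choose L hL using hexp
  have hz1 : ∀ v ∈ F.R, ∀ l, (y * v * y⁻¹) * (v ^ l)⁻¹ ∈ F.R := fun v hv l =>
    mul_mem (hy.conj v hv) (inv_mem (pow_mem hv l))
  have htriv : ∀ v ∈ F.R, ∀ l z, z ∉ Set.range Γ → (v ^ L (F.o z)) z = (v ^ l) z →
      ((y * v * y⁻¹) * (v ^ l)⁻¹) z = z := by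
    intro v hv l z hz heq
    have hz' := F.out_mem (inv_mem (pow_mem hv l)) hz
    rw [Equiv.Perm.mul_apply, hL (F.o z) v hv _ hz' (F.label_mem (inv_mem (pow_mem hv l)) hz),
      F.comm (pow_mem hv _) (inv_mem (pow_mem hv l)), heq, ← Equiv.Perm.mul_apply,
      inv_mul_cancel, Equiv.Perm.one_apply]
  by_cases h : ∃ i, ∃ w ∈ F.R, w ≠ 1 ∧ ∀ z, z ∉ Set.range Γ → F.o z = i → w z = z
  · obtain ⟨i, w, hw, hw1, hwi⟩ := h
    obtain ⟨j, hji⟩ : ∃ j : Fin s, j ≠ i :=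
      haveI : Nontrivial (Fin s) := Fin.nontrivial_iff_two_le.2 hs2
      exists_ne i
    refine ⟨L j, fun v hv => mul_inv_eq_one.1 (hno _ (hz1 v hv _) i fun z hz hzi => ?_)⟩
    refine htriv v hv _ z hz ?_
    by_cases hj : F.o z = j
    · rw [hj]
    -- the exponents agree away from `i`
    have hwconj : y * w * y⁻¹ * (w ^ L j)⁻¹ = 1 := by
      refine hno _ (hz1 w hw _) (F.o z) fun z' hz' hne => htriv w hw _ z' hz' ?_
      by_cases hzj : F.o z' = j
      · rw [hzj]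
      · have hzi' : F.o z' = i := by
          by_contra hne'
          exact hne (hs3 i j hji.symm _ _ hne' hzj hzi hj)
        have hwz : w z' = z' := hwi z' hz' hzi'
        rw [Equiv.Perm.pow_apply_eq_self_of_apply_eq_self hwz,
          Equiv.Perm.pow_apply_eq_self_of_apply_eq_self hwz]
    have hmove : ∃ z', z' ∉ Set.range Γ ∧ F.o z' = F.o z ∧ w z' ≠ z' := by
      by_contra hcon
      push Not at hcon
      refine hw1 (hno w hw j fun z' hz' hne => ?_)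
      by_cases hzi' : F.o z' = i
      · exact hwi z' hz' hzi'
      · exact hcon z' hz' (hs3 i j hji.symm _ _ hzi' hne hzi hj)
    obtain ⟨z', hz', hzz', hwz'⟩ := hmove
    have heq : (w ^ L (F.o z)) z' = (w ^ L j) z' := by
      rw [← hzz', ← hL (F.o z') w hw z' hz' rfl, mul_inv_eq_one.1 hwconj]
    have hmod : L (F.o z) ≡ L j [MOD r] := by
      have hmem : ∀ a b : ℕ, a ≤ b → (w ^ a) z' = (w ^ b) z' → a ≡ b [MOD r] := by
        intro a b hab he
        have hfix : (w ^ (b - a)) z' = z' := by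
          rw [← Nat.add_sub_cancel' hab, pow_add, Equiv.Perm.mul_apply] at he
          exact ((w ^ a).injective he).symm
        refine ((Nat.modEq_iff_dvd' hab).2 ?_)
        by_contra hnd
        have hcop : Nat.Coprime r (b - a) := hr.coprime_iff_not_dvd.2 hnd
        obtain ⟨n, hn⟩ := exists_pow_eq_self_of_coprime (x := w) (n := b - a)
          (by rw [orderOf_eq_prime (F.pow_r w hw) hw1]; exact hcop.symm)
        refine hwz' ?_
        calc w z' = ((w ^ (b - a)) ^ n) z' := by rw [hn]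
          _ = z' := Equiv.Perm.pow_apply_eq_self_of_apply_eq_self hfix n
      rcases le_total (L (F.o z)) (L j) with hle | hle
      · exact hmem _ _ hle heq
      · exact (hmem _ _ hle heq.symm).symm
    have hv' : v ^ L (F.o z) = v ^ L j :=
      pow_eq_pow_iff_modEq.2 (hmod.of_dvd (orderOf_dvd_of_pow_eq_one (F.pow_r v hv)))
    rw [hv']
  · push Not at h
    obtain ⟨i⟩ : Nonempty (Fin s) := ⟨⟨0, by omega⟩⟩
    refine ⟨L i, fun v hv => ?_⟩
    by_contra hne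
    obtain ⟨z, hz, hzi, hmv⟩ := h i _ (hz1 v hv (L i)) (fun e => hne (mul_inv_eq_one.1 e))
    exact hmv (htriv v hv _ z hz (by rw [hzi]))

/-- The key element supported inside `Γ`. -/
theorem exists_small (F : Frame G r s Γ) (hno : F.NoSingle) (hs2 : 2 ≤ s)
    (hs3 : ∀ i j : Fin s, i ≠ j → ∀ m n : Fin s, m ≠ i → m ≠ j → n ≠ i → n ≠ j → m = n)
    (hr : r.Prime) {π τ : Equiv.Perm (Fin k)} {σ : Equiv.Perm (Fin s)} {y t : Equiv.Perm α}
    (hy : F.Lift π 1 y) (ht : F.Lift τ σ t) :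
    ∃ g ∈ G, (∀ z, z ∉ Set.range Γ → g z = z) ∧
      ∀ i, g (Γ i) = Γ ((⁅τ, π⁆ ^ r : Equiv.Perm (Fin k)) i) := by
  obtain ⟨l, hl⟩ := F.scalar hno hs2 hs3 hy hr
  have hx : F.Lift ⁅τ, π⁆ 1 ⁅t, y⁆ := by
    have := ht.commutator hy
    rwa [commutatorElement_one_right] at this
  set x := ⁅t, y⁆ with hxdef
  -- `x` centralises `R`
  have hcen : ∀ v ∈ F.R, x * v = v * x := by
    intro v hv
    have h1 : ∀ a ∈ F.R, t * y * t⁻¹ * a * (t * y * t⁻¹)⁻¹ = y * a * y⁻¹ := by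
      intro a ha
      rw [show t * y * t⁻¹ * a * (t * y * t⁻¹)⁻¹ = t * (y * (t⁻¹ * a * t) * y⁻¹) * t⁻¹ by group,
        hl _ (ht.conj_inv a ha), hl a ha, ← conj_pow]
      congr 1
      group
    have h2 := h1 _ (hy.conj_inv v hv)
    rw [hxdef, commutatorElement_def]
    have h3 : t * y * t⁻¹ * y⁻¹ * v * (t * y * t⁻¹ * y⁻¹)⁻¹ = v := by
      calc _ = t * y * t⁻¹ * (y⁻¹ * v * y) * (t * y * t⁻¹)⁻¹ := by group
        _ = y * (y⁻¹ * v * y) * y⁻¹ := h2
        _ = v := by group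
    exact mul_inv_eq_iff_eq_mul.1 h3
  refine ⟨x ^ r, (hx.pow r).mem, fun z hz => ?_, (hx.pow r).gam⟩
  obtain ⟨a, ha, hax⟩ := (F.orbit_iff z (x z) hz (hx.out hz)).1
    (by rw [hx.lab z hz]; rfl)
  have hn : ∀ n : ℕ, (x ^ n) z = (a ^ n) z := by
    intro n
    induction n with
    | zero => simp
    | succ n ih =>
      have hc : x ((a ^ n) z) = (a ^ n) (x z) :=
        Equiv.Perm.congr_fun (hcen _ (pow_mem ha n)) z
      rw [pow_succ' x, Equiv.Perm.mul_apply, ih, hc, ← hax, pow_succ, Equiv.Perm.mul_apply]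
  rw [hn r, F.pow_r a ha]
  rfl

end Frame

end CfsgLib.TwinPrime
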