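import Mathlib.NumberTheory.LegendreSymbol.QuadraticChar.Basic
import Mathlib.Algebra.Field.ZMod
import Mathlib.Tactic

/-!
# The Netto triple systems have no triangle transitive automorphism group

The third point operation of the system and the semiregularity of the permutations it generates on
the complement of a line are contradictory.
-/

set_option autoImplicit false

namespace CfsgLib.TwinPrime

open scoped Classical

variable {p : ℕ} [Fact p.Prime]

/-- The third point of the line through two points. -/
noncomputable def third (c a t : ZMod p) : ZMod p :=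
  if IsSquare (t - a) then a + c * (t - a) else a + (1 - c) * (t - a)

/-- The involution attached to a point of the base line. -/
noncomputable def along (c : ZMod p) (w : List (ZMod p)) (t : ZMod p) : ZMod p :=
  w.foldl (fun s a => third c a s) t

theorem along_nil (c t : ZMod p) : along c [] t = t := rfl

theorem along_cons (c a t : ZMod p) (w : List (ZMod p)) :
    along c (a :: w) t = along c w (third c a t) := rfl

theorem along_comm (c : ZMod p) {φ : ZMod p → ZMod p} :
    ∀ (w : List (ZMod p)), (∀ a ∈ w, ∀ t, φ (third c a t) = third c a (φ t)) →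
      ∀ t, φ (along c w t) = along c w (φ t)
  | [], _, _ => rfl
  | a :: w, h, t => by
    rw [along_cons, along_cons, along_comm c w (fun b hb => h b (List.mem_cons_of_mem a hb)),
      h a List.mem_cons_self]

theorem third_pos {c a t s : ZMod p} (h : quadraticChar (ZMod p) (t - a) = 1)
    (hs : a + c * (t - a) = s) : third c a t = s := by
  have hne : t - a ≠ 0 := fun h0 => by simp [h0] at h
  rw [third, if_pos ((quadraticChar_one_iff_isSquare hne).1 h), hs]

theorem third_neg {c a t s : ZMod p} (h : quadraticChar (ZMod p) (t - a) = -1)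
    (hs : a + (1 - c) * (t - a) = s) : third c a t = s := by
  rw [third, if_neg (quadraticChar_neg_one_iff_not_isSquare.1 h), hs]

/-- **The contradiction.** -/
theorem netto_false (hp : 13 ≤ p) (hneg : ¬ IsSquare (-1 : ZMod p)) (c : ZMod p)
    (hc : c ^ 2 - c + 1 = 0) (h1c : ¬ IsSquare (1 + c))
    (hreg : ∀ w : List (ZMod p), (∀ a ∈ w, a = 0 ∨ a = 1 ∨ a = c) →
      ∀ t₀, t₀ ≠ 0 → t₀ ≠ 1 → t₀ ≠ c → along c w t₀ = t₀ →
      ∀ t, t ≠ 0 → t ≠ 1 → t ≠ c → along c w t = t) : False := by
  have hsmall : ∀ n : ℕ, 0 < n → n < 13 → ((n : ZMod p) ≠ 0) := fun n h0 hn h => by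
    have := Nat.le_of_dvd h0 ((ZMod.natCast_eq_zero_iff n p).1 h)
    omega
  have n2 : (2 : ZMod p) ≠ 0 := by simpa using hsmall 2 (by norm_num) (by norm_num)
  have n3 : (3 : ZMod p) ≠ 0 := by simpa using hsmall 3 (by norm_num) (by norm_num)
  have n7 : (7 : ZMod p) ≠ 0 := by simpa using hsmall 7 (by norm_num) (by norm_num)
  have hc0 : c ≠ 0 := fun h => by simp [h] at hc
  have hc1 : c ≠ 1 := fun h => by simp [h] at hc
  have hcm1 : c ≠ -1 := fun h => n3 (by rw [h] at hc; linear_combination hc)
  have hc2 : c ≠ 2 := fun h => n3 (by rw [h] at hc; linear_combination hc)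
  set χ := quadraticChar (ZMod p)
  have mm : ∀ x y, χ (x * y) = χ x * χ y := map_mul χ
  have xm : χ (-1) = -1 := quadraticChar_neg_one_iff_not_isSquare.2 hneg
  have x1c : χ (1 + c) = -1 := quadraticChar_neg_one_iff_not_isSquare.2 h1c
  have xsq : ∀ x : ZMod p, x ≠ 0 → χ (x * x) = 1 := fun x hx => by
    rw [← sq]; exact quadraticChar_sq_one' hx
  have xc : χ c = -1 := by
    have h : c * c * c = -1 := by linear_combination (c + 1) * hc
    have h' := congrArg χ h
    rwa [mm, xsq c hc0, one_mul, xm] at h'
  have x3 : χ 3 = -1 := by
    have h : (-1) * 3 = (2 * c - 1) * (2 * c - 1) := by linear_combination -4 * hc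
    have hne : 2 * c - 1 ≠ 0 := fun h0 => n3 (by rw [h0] at h; linear_combination -h)
    have h' := congrArg χ h
    rw [xsq _ hne, mm, xm] at h'
    linarith
  have x2c : χ (2 - c) = 1 := by
    have h : (1 + c) * (2 - c) = 3 := by linear_combination -hc
    have h' := congrArg χ h
    rw [mm, x1c, x3] at h'
    linarith
  have xd : ∀ {d u : ZMod p} {v : ℤ}, d = u → χ u = v → χ d = v := fun h h' => h ▸ h'
  rcases quadraticChar_dichotomy n2 with x2 | x2
  · -- `2` is a square
    have x1mc : χ (1 - c) = -1 := by
      have h' := congrArg χ (show c * (1 - c) = 1 by linear_combination -hc)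
      rw [mm, xc, map_one] at h'
      linarith
    have f1 : third c 0 (-1) = c - 1 := third_neg (xd (sub_zero _) xm) (by ring)
    have f2 : third c c (c - 1) = 2 * c - 1 :=
      third_neg (xd (show c - 1 - c = -1 by ring) xm) (by ring)
    have f3 : third c 1 (2 * c - 1) = -1 :=
      third_pos (xd (show 2 * c - 1 - 1 = (-1) * 2 * (1 - c) by ring)
        (by rw [mm, mm, xm, x2, x1mc]; norm_num)) (by linear_combination 2 * hc)
    have g1 : third c 0 (-c) = 1 - c :=
      third_pos (xd (show -c - 0 = (-1) * c by ring) (by rw [mm, xm, xc]; norm_num))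
        (by linear_combination -hc)
    have g2 : third c c (1 - c) = -1 :=
      third_neg (xd (show 1 - c - c = (-1) * c * (1 + c) by linear_combination hc)
        (by rw [mm, mm, xm, xc, x1c]; norm_num)) (by linear_combination 2 * hc)
    have g3 : third c 1 (-1) = 2 * c - 1 :=
      third_neg (xd (show (-1 : ZMod p) - 1 = (-1) * 2 by ring)
        (by rw [mm, xm, x2]; norm_num)) (by ring)
    have fix : along c [0, c, 1] (-1) = -1 := by
      simp only [along_cons, along_nil, f1, f2, f3]
    have h := hreg [0, c, 1] (by simp) (-1) (by simp) (fun h => n2 (by linear_combination -h))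
      (Ne.symm hcm1) fix (-c) (neg_ne_zero.2 hc0) (fun h => hcm1 (by linear_combination -h))
      (fun h => by
        rcases mul_eq_zero.1 (show (2 : ZMod p) * c = 0 by linear_combination -h) with h' | h'
        exacts [n2 h', hc0 h'])
    simp only [along_cons, along_nil, g1, g2, g3] at h
    refine n7 ?_
    linear_combination 9 * hc - (3 * c - 2) * h
  · -- `2` is not a square
    obtain ⟨k, hk⟩ : ∃ k : ZMod p, 3 * k = 1 := ⟨3⁻¹, mul_inv_cancel₀ n3⟩
    have xk : χ k = -1 := by
      have h' := congrArg χ hk
      rw [mm, x3, map_one] at h'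
      linarith
    have f1 : third c 0 (-1) = c - 1 := third_neg (xd (sub_zero _) xm) (by ring)
    have f2 : third c c (c - 1) = 2 * c - 1 :=
      third_neg (xd (show c - 1 - c = -1 by ring) xm) (by ring)
    have f3 : third c 0 (2 * c - 1) = c - 2 :=
      third_pos (xd (show 2 * c - 1 - 0 = c * (1 + c) by linear_combination -hc)
        (by rw [mm, xc, x1c]; norm_num)) (by linear_combination 2 * hc)
    have f4 : third c c (c - 2) = -c :=
      third_pos (xd (show c - 2 - c = (-1) * 2 by ring) (by rw [mm, xm, x2]; norm_num)) (by ring)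
    have f5 : third c 0 (-c) = 1 - c :=
      third_pos (xd (show -c - 0 = (-1) * c by ring) (by rw [mm, xm, xc]; norm_num))
        (by linear_combination -hc)
    have f6 : third c c (1 - c) = -1 :=
      third_neg (xd (show 1 - c - c = (-1) * c * (1 + c) by linear_combination hc)
        (by rw [mm, mm, xm, xc, x1c]; norm_num)) (by linear_combination 2 * hc)
    have g1 : third c 0 ((2 * c - 4) * k) = (4 * c - 2) * k :=
      third_neg (xd (show (2 * c - 4) * k - 0 = (-1) * 2 * (2 - c) * k by ring)
        (by rw [mm, mm, mm, xm, x2, x2c, xk]; norm_num)) (by linear_combination (-2 * k) * hc)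
    have g2 : third c c ((4 * c - 2) * k) = (2 * c - 1) * k :=
      third_pos (xd (show (4 * c - 2) * k - c = (-1) * (2 - c) * k by linear_combination c * hk)
        (by rw [mm, mm, xm, x2c, xk]; norm_num))
        (by linear_combination (4 * k - 1) * hc - hk)
    have g3 : third c 0 ((2 * c - 1) * k) = (c + 1) * k :=
      third_neg (xd (show (2 * c - 1) * k - 0 = c * (1 + c) * k by linear_combination (-k) * hc)
        (by rw [mm, mm, xc, x1c, xk]; norm_num)) (by linear_combination (-2 * k) * hc)
    have g4 : third c c ((c + 1) * k) = (2 * c + 2) * k :=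
      third_pos (xd (show (c + 1) * k - c = (-1) * c * (1 + c) * k by
        linear_combination k * hc + c * hk) (by rw [mm, mm, mm, xm, xc, x1c, xk]; norm_num))
        (by linear_combination (k - 1) * hc - hk)
    have g5 : third c 0 ((2 * c + 2) * k) = (4 - 2 * c) * k :=
      third_neg (xd (show (2 * c + 2) * k - 0 = 2 * (1 + c) * k by ring)
        (by rw [mm, mm, x2, x1c, xk]; norm_num)) (by linear_combination (-2 * k) * hc)
    have fix : along c [0, c, 0, c, 0, c] (-1) = -1 := by
      simp only [along_cons, along_nil, f1, f2, f3, f4, f5, f6]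
    have h := hreg [0, c, 0, c, 0, c] (by simp) (-1) (by simp)
      (fun h => n2 (by linear_combination -h)) (Ne.symm hcm1) fix ((2 * c - 4) * k)
      (fun h => hc2 (by
        rcases mul_eq_zero.1 h with h' | h'
        · rcases mul_eq_zero.1 (show (2 : ZMod p) * (c - 2) = 0 by linear_combination h')
            with h'' | h''
          · exact absurd h'' n2
          · exact sub_eq_zero.1 h''
        · rw [h', mul_zero] at hk; exact absurd hk zero_ne_one))
      (fun h => by
        have h2 : 2 * c = 7 := by linear_combination 3 * h - (2 * c - 4) * hk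
        have h39 : ((39 : ℕ) : ZMod p) = 0 := by
          push_cast; linear_combination 4 * hc - (2 * c + 5) * h2
        have hd := (ZMod.natCast_eq_zero_iff 39 p).1 h39
        rw [show (39 : ℕ) = 3 * 13 by norm_num] at hd
        have h13 : p = 13 := by
          rcases (Fact.out : p.Prime).dvd_mul.1 hd with h' | h'
          · have := Nat.le_of_dvd (by norm_num) h'; omega
          · exact (Nat.prime_dvd_prime_iff_eq Fact.out (by norm_num)).1 h'
        subst h13
        have h13' : ((13 : ℕ) : ZMod 13) = 0 := ZMod.natCast_self 13
        push_cast at h13'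
        exact hneg ⟨5, by linear_combination -2 * h13'⟩)
      (fun h => n7 (by
        have h4 : c = -4 := by linear_combination -3 * h + (2 * c - 4) * hk
        have h21 : (3 : ZMod p) * 7 = 0 := by rw [h4] at hc; linear_combination hc
        exact (mul_eq_zero.1 h21).resolve_left n3))
    simp only [along_cons, along_nil, g1, g2, g3, g4, g5] at h
    unfold third at h
    split_ifs at h
    · refine n3 ?_
      linear_combination h + (2 * k + 1) * hc - 2 * hk
    · exact hc1 (by linear_combination -h + (2 * k + 1) * hc + (2 - 2 * c) * hk)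

end CfsgLib.TwinPrime
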