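import Cfsg.Agent.Lib.PermGroup.PrimeSylow
import Mathlib.NumberTheory.LegendreSymbol.Basic

/-!
# Groups of prime degree with a half Sylow normaliser
-/

set_option autoImplicit false

open MulAction Subgroup
open scoped Classical

namespace CfsgLib.TwinPrime

open CfsgLib.PermGroup

variable {α : Type*} [Fintype α] {p : ℕ} [Fact p.Prime]

/-- `G` contains every affine map whose multiplier is a non-zero square. -/
def HasHalfAffine (G : Subgroup (Equiv.Perm α)) (e : ZMod p ≃ α) : Prop :=
  ∀ k v : ZMod p, k ≠ 0 → IsSquare k → ∃ g ∈ G, ∀ j, g (e j) = e (k * j + v)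

omit [Fintype α] in
theorem HasHalfAffine.translations {G : Subgroup (Equiv.Perm α)} {e : ZMod p ≃ α}
    (h : HasHalfAffine G e) : HasTranslations G e := fun c => by
  obtain ⟨g, hg, hgj⟩ := h 1 c one_ne_zero ⟨1, by ring⟩
  exact ⟨g, hg, fun j => by rw [hgj, one_mul]⟩

omit [Fintype α] in
theorem HasHalfAffine.neg {G : Subgroup (Equiv.Perm α)} {e : ZMod p ≃ α}
    (h : HasHalfAffine G e) : HasHalfAffine G ((Equiv.neg (ZMod p)).trans e) := fun k v hk hsq => by
  obtain ⟨g, hg, hgj⟩ := h k (-v) hk hsq
  refine ⟨g, hg, fun j => ?_⟩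
  show g (e (-j)) = e (-(k * j + v))
  rw [hgj]
  congr 1; ring

variable [DecidableEq α]

/-- An affine permutation with square multiplier is even. -/
theorem sign_affine (hα : Fintype.card α = p) (hp2 : p ≠ 2) (e : ZMod p ≃ α) {g : Equiv.Perm α}
    {k v : ZMod p} (hk : k ≠ 0) (hsq : IsSquare k) (hg : ∀ j, g (e j) = e (k * j + v)) :
    Equiv.Perm.sign g = 1 := by
  obtain ⟨s, rfl⟩ := hsq
  have hs : s ≠ 0 := fun h => hk (by rw [h, mul_zero])
  set M : Equiv.Perm α := (e.symm.trans (Equiv.mulLeft₀ s hs)).trans e with hM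
  set T : Equiv.Perm α := (e.symm.trans (Equiv.addRight v)).trans e with hT
  have hgeq : g = T * (M * M) := by
    ext a
    obtain ⟨j, rfl⟩ := e.surjective a
    rw [hg, hM, hT]
    simp [Equiv.Perm.mul_apply, mul_assoc]
  have hTp : T ^ p = 1 := by
    have hpow : ∀ (n : ℕ) j, (T ^ n) (e j) = e (j + n * v) := by
      intro n
      induction n with
      | zero => simp
      | succ n ih =>
        intro j
        rw [pow_succ', Equiv.Perm.mul_apply, ih, hT]
        simp [Equiv.trans_apply]
        ring
    ext a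
    obtain ⟨j, rfl⟩ := e.surjective a
    rw [hpow, ZMod.natCast_self, zero_mul, add_zero, Equiv.Perm.one_apply]
  have h1 : Equiv.Perm.sign T ^ p = 1 := by rw [← map_pow, hTp, map_one]
  have hodd : Odd p := (Fact.out : p.Prime).odd_of_ne_two hp2
  rcases Int.units_eq_one_or (Equiv.Perm.sign T) with h | h
  · rw [hgeq, map_mul, map_mul, h, one_mul, Int.units_mul_self]
  · rw [h, hodd.neg_one_pow] at h1
    exact absurd h1 (by decide)

/-- The normaliser of the Sylow subgroup consists of all half affine maps and lies in the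
alternating group. -/
theorem exists_half (hα : Fintype.card α = p) (hp2 : p ≠ 2) (G : Subgroup (Equiv.Perm α))
    [IsPretransitive G α] (P : Sylow p G)
    (hN : 2 * Nat.card (normalizer ((P : Subgroup G) : Set G)) = p * (p - 1)) :
    ∃ e : ZMod p ≃ α, HasHalfAffine G e ∧ G ≤ alternatingGroup α := by
  have hp := (Fact.out : p.Prime)
  set N := normalizer ((P : Subgroup G) : Set G) with hNdef
  set E := (p - 1) / 2 with hE
  have hpodd : p % 2 = 1 := Nat.odd_iff.1 (hp.odd_of_ne_two hp2)
  have hNc : Nat.card N = p * E := by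
    have h1 : p * (p - 1) = 2 * (p * E) := by
      rw [hE, mul_left_comm, Nat.mul_div_cancel' (show 2 ∣ p - 1 by omega)]
    omega
  obtain ⟨s, hs⟩ := exists_prime_orderOf_dvd_card' (G := (P : Subgroup G)) p
    (by rw [card_sylow_eq hα G P])
  set σ : Equiv.Perm α := ((s : G) : Equiv.Perm α) with hσdef
  have hσp : σ ^ p = 1 := by
    have := congrArg (fun x : (P : Subgroup G) => ((x : G) : Equiv.Perm α))
      (orderOf_dvd_iff_pow_eq_one.mp hs.dvd)
    simpa using this
  obtain ⟨a, ha⟩ : ∃ a, σ a ≠ a := by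
    by_contra h
    simp only [not_exists, not_not] at h
    have : s = 1 := Subtype.ext (Subtype.ext (Equiv.ext h))
    rw [this, orderOf_one] at hs
    exact hp.one_lt.ne hs
  obtain ⟨e, -, he⟩ := exists_labelling hα hσp ha
  have hpow : ∀ (n : ℕ) j, (σ ^ n) (e j) = e (j + n) := by
    intro n
    induction n with
    | zero => simp
    | succ n ih => intro j; rw [pow_succ', Equiv.Perm.mul_apply, ih, he]; push_cast; ring_nf
  -- normalisers are affine
  have haff : ∀ g ∈ N, IsAffineOn e ((g : G) : Equiv.Perm α) := by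
    intro g hg
    have hconj : g * (s : G) * g⁻¹ ∈ (P : Subgroup G) := (mem_normalizer_iff.mp hg _).mp s.2
    have hz : zpowers s = ⊤ := by
      refine eq_top_of_card_eq _ ?_
      rw [Nat.card_zpowers, hs, card_sylow_eq hα G P]
    obtain ⟨n, -, hn⟩ := Finset.mem_image.mp
      ((IsOfFinOrder.mem_powers_iff_mem_range_orderOf (isOfFinOrder_of_finite s)).mp
        ((IsOfFinOrder.mem_powers_iff_mem_zpowers (isOfFinOrder_of_finite s)).mpr
          (hz.symm ▸ mem_top (⟨_, hconj⟩ : (P : Subgroup G)))))
    refine affine_of_conj (k := (n : ZMod p)) fun j => ?_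
    have h1 := congrArg (fun u : (P : Subgroup G) =>
      ((u : G) : Equiv.Perm α) ((g : Equiv.Perm α) (e j))) hn
    simp only [Subgroup.coe_pow, Subgroup.coe_mul, Subgroup.coe_inv, Equiv.Perm.mul_apply,
      Equiv.Perm.inv_def, Equiv.symm_apply_apply] at h1
    rw [show σ (e j) = e (j + 1) from he j] at h1
    rw [← h1, ← hσdef, ← hpow, e.apply_symm_apply]
  choose K V hKV using fun g : N => haff g g.2
  have hK0 : ∀ g, K g ≠ 0 := fun g h => by
    have h0 := hKV g 0
    have h1 := hKV g 1
    rw [h, zero_mul] at h0 h1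
    exact one_ne_zero (e.injective (((g : G) : Equiv.Perm α).injective (h1.trans h0.symm)))
  have hKE : ∀ g, K g ^ E = 1 := by
    intro g
    have hiter : ∀ n : ℕ, ∃ v, ∀ j, (((g : G) : Equiv.Perm α) ^ n) (e j) = e (K g ^ n * j + v) := by
      intro n
      induction n with
      | zero => exact ⟨0, by simp⟩
      | succ n ih =>
        obtain ⟨v, hv⟩ := ih
        exact ⟨K g * v + V g, fun j => by
          rw [pow_succ', Equiv.Perm.mul_apply, hv, hKV, pow_succ']; congr 1; ring⟩
    obtain ⟨v, hv⟩ := hiter (Nat.card N)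
    have h1 : ((g : G) : Equiv.Perm α) ^ Nat.card N = 1 := by
      rw [← Subgroup.coe_pow, ← Subgroup.coe_pow, pow_card_eq_one', OneMemClass.coe_one,
        OneMemClass.coe_one]
    rw [h1] at hv
    have h2 := affine_slope (e := e) (g := (1 : Equiv.Perm α)) hv
    simp only [Equiv.Perm.one_apply, Equiv.symm_apply_apply, sub_zero, hNc, pow_mul] at h2
    rwa [ZMod.pow_card] at h2
  -- all of them
  let S := {kv : ZMod p × ZMod p // kv.1 ^ E = 1}
  have hEpos : 0 < E := by have := hp.two_le; omega
  let f : N → S := fun g => ⟨(K g, V g), hKE g⟩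
  have hf : Function.Injective f := by
    intro g g' h
    have h' := congrArg Subtype.val h
    refine Subtype.ext (Subtype.ext (Equiv.ext fun a => ?_))
    obtain ⟨j, rfl⟩ := e.surjective a
    simp only [f, Prod.mk.injEq] at h'
    rw [hKV g, hKV g', h'.1, h'.2]
  have hScard : Nat.card S ≤ Nat.card N := by
    rw [hNc, Nat.card_eq_fintype_card, Fintype.card_subtype]
    have hsub : (Finset.univ.filter fun kv : ZMod p × ZMod p => kv.1 ^ E = 1) ⊆
        ((Finset.univ.filter fun k : ZMod p => k ^ E = 1) ×ˢ Finset.univ) := by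
      intro kv hkv
      simp only [Finset.mem_filter, Finset.mem_univ, true_and] at hkv
      simp [hkv]
    refine (Finset.card_le_card hsub).trans ?_
    rw [Finset.card_product, Finset.card_univ, ZMod.card, mul_comm]
    refine Nat.mul_le_mul_left p ?_
    have hsub' : (Finset.univ.filter fun k : ZMod p => k ^ E = 1) ⊆
        ((Polynomial.X ^ E - Polynomial.C (1 : ZMod p)).roots).toFinset := by
      intro k hk
      simp only [Finset.mem_filter, Finset.mem_univ, true_and] at hk
      rw [Multiset.mem_toFinset, Polynomial.mem_roots (Polynomial.X_pow_sub_C_ne_zero hEpos _)]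
      simp [hk]
    refine (Finset.card_le_card hsub').trans ((Multiset.toFinset_card_le _).trans ?_)
    refine (Polynomial.card_roots' _).trans ?_
    rw [Polynomial.natDegree_X_pow_sub_C]
  have hsurj : Function.Surjective f := (hf.bijective_of_nat_card_le hScard).2
  have hhalf : HasHalfAffine G e := by
    intro k v hk hsq
    have hkE : k ^ E = 1 := by
      rw [hE, show (p - 1) / 2 = p / 2 by omega]
      exact (ZMod.euler_criterion p hk).1 hsq
    obtain ⟨g, hg⟩ := hsurj ⟨(k, v), hkE⟩
    have hg' := congrArg Subtype.val hg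
    simp only [f, Prod.mk.injEq] at hg'
    exact ⟨((g : G) : Equiv.Perm α), (g : G).2, fun j => by rw [hKV g, hg'.1, hg'.2]⟩
  refine ⟨e, hhalf, ?_⟩
  -- everything is even
  set A : Subgroup G := (alternatingGroup α).comap G.subtype with hA
  have hNA : N ≤ A := by
    intro g hg
    rw [hA, Subgroup.mem_comap, Equiv.Perm.mem_alternatingGroup]
    refine sign_affine hα hp2 e (hK0 ⟨g, hg⟩) ?_ (hKV ⟨g, hg⟩)
    refine (ZMod.euler_criterion p (hK0 ⟨g, hg⟩)).2 ?_
    rw [show p / 2 = E by omega]
    exact hKE ⟨g, hg⟩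
  haveI : A.Normal := Subgroup.Normal.comap inferInstance _
  have hPA : (P : Subgroup G) ≤ A := le_trans le_normalizer hNA
  have htop : N ⊔ A = ⊤ := Sylow.normalizer_sup_eq_top' P hPA
  rw [sup_eq_right.2 hNA] at htop
  intro g hg
  have : (⟨g, hg⟩ : G) ∈ A := htop ▸ mem_top _
  exact this

end CfsgLib.TwinPrime
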