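import Cfsg.Agent.Lib.TwinPrime.Orbits
import Cfsg.Agent.Lib.TwinPrime.Lines
import Cfsg.Agent.Lib.TwinPrime.Netto

/-!
# Triple transitivity for twin primes
-/

set_option autoImplicit false

open MulAction Subgroup
open scoped Classical

namespace CfsgLib.TwinPrime

open CfsgLib.PermGroup

variable {α : Type*} [Fintype α] {p : ℕ} [Fact p.Prime]

omit [Fintype α] in
theorem collinear_on_base {G : Subgroup (Equiv.Perm α)} {R : α → α → α → Prop} (hL : Lines G R)
    {a b x y z : α} (hx : x = a ∨ x = b ∨ R a b x) (hy : y = a ∨ y = b ∨ R a b y)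
    (hz : z = a ∨ z = b ∨ R a b z) (hxy : x ≠ y) (hxz : x ≠ z) (hyz : y ≠ z) : R x y z := by
  have r1 : ∀ {u v w}, R u v w → R v w u := fun h => hL.rot (hL.swap h)
  rcases hx with hx | hx | hx <;> rcases hy with hy | hy | hy <;> rcases hz with hz | hz | hz <;>
    first
      | exact absurd (hx.trans hy.symm) hxy
      | exact absurd (hx.trans hz.symm) hxz
      | exact absurd (hy.trans hz.symm) hyz
      | skip
  · rw [hx, hy]; exact hz
  · rw [hx, hz]; exact hL.rot hy
  · rw [hx]; exact hL.tri hy hz hyz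
  · rw [hx, hy]; exact hL.swap hz
  · rw [hx, hz]; exact r1 (r1 (r1 (hL.rot (hL.swap hy))))
  · rw [hx]; exact hL.tri (hL.swap hy) (hL.swap hz) hyz
  · rw [hy, hz]; exact r1 (r1 hx)
  · rw [hy]; exact hL.swap (hL.tri hx hz hxz)
  · rw [hy, hz]; exact r1 (r1 (hL.swap hx))
  · rw [hy]; exact hL.swap (hL.tri (hL.swap hx) (hL.swap hz) hxz)
  · rw [hz]; exact r1 (hL.tri hx hy hxy)
  · rw [hz]; exact r1 (hL.tri (hL.swap hx) (hL.swap hy) hxy)
  · have h1 := hL.swap (hL.tri hx hy hxy)
    have h2 := hL.swap (hL.tri hx hz hxz)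
    exact hL.tri h1 h2 hyz

/-- The lines have three points and are given by `third`. -/
theorem third_of_lines {G : Subgroup (Equiv.Perm α)} {R : α → α → α → Prop} (hL : Lines G R)
    (e : ZMod p ≃ α) (he : HasHalfAffine G e) (hneg : ¬ IsSquare (-1 : ZMod p)) (hp5 : 5 ≤ p) :
    ∃ c : ZMod p, c ^ 2 - c + 1 = 0 ∧
      ∀ a t x : ZMod p, a ≠ t → (R (e a) (e t) (e x) ↔ x = third c a t) := by
  have r1 : ∀ {u v w}, R u v w → R v w u := fun h => hL.rot (hL.swap h)
  have hne01 : e 0 ≠ e 1 := fun h => zero_ne_one (e.injective h)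
  set S : Finset (ZMod p) := Finset.univ.filter fun j => j = 0 ∨ j = 1 ∨ R (e 0) (e 1) (e j) with hS
  have hmemS : ∀ j, j ∈ S ↔ (e j = e 0 ∨ e j = e 1 ∨ R (e 0) (e 1) (e j)) := fun j => by
    simp [hS, e.injective.eq_iff]
  have hcol : ∀ {x y z}, x ∈ S → y ∈ S → z ∈ S → x ≠ y → x ≠ z → y ≠ z →
      R (e x) (e y) (e z) := fun hx hy hz h1 h2 h3 =>
    collinear_on_base hL ((hmemS _).1 hx) ((hmemS _).1 hy) ((hmemS _).1 hz) (e.injective.ne h1)
      (e.injective.ne h2) (e.injective.ne h3)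
  have h0S : (0 : ZMod p) ∈ S := (hmemS 0).2 (Or.inl rfl)
  have h1S : (1 : ZMod p) ∈ S := (hmemS 1).2 (Or.inr (Or.inl rfl))
  have hback : ∀ {x y z}, x ∈ S → y ∈ S → x ≠ y → R (e x) (e y) (e z) → z ∈ S := by
    intro x y z hx hy hxy hz
    have c0 : e 0 = e x ∨ e 0 = e y ∨ R (e x) (e y) (e 0) := by
      by_cases h1 : (0 : ZMod p) = x
      · exact Or.inl (congrArg e h1)
      by_cases h2 : (0 : ZMod p) = y
      · exact Or.inr (Or.inl (congrArg e h2))
      exact Or.inr (Or.inr (hcol hx hy h0S hxy (Ne.symm h1) (Ne.symm h2)))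
    have c1 : e 1 = e x ∨ e 1 = e y ∨ R (e x) (e y) (e 1) := by
      by_cases h1 : (1 : ZMod p) = x
      · exact Or.inl (congrArg e h1)
      by_cases h2 : (1 : ZMod p) = y
      · exact Or.inr (Or.inl (congrArg e h2))
      exact Or.inr (Or.inr (hcol hx hy h1S hxy (Ne.symm h1) (Ne.symm h2)))
    rw [hmemS]
    by_cases h1 : e z = e 0
    · exact Or.inl h1
    by_cases h2 : e z = e 1
    · exact Or.inr (Or.inl h2)
    exact Or.inr (Or.inr (collinear_on_base hL c0 c1 (Or.inr (Or.inr hz)) hne01 (Ne.symm h1)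
      (Ne.symm h2)))
  -- affine symmetries of the base line
  have hmove : ∀ {x y}, x ∈ S → y ∈ S → x ≠ y → IsSquare (y - x) →
      ∀ j ∈ S, (y - x) * j + x ∈ S := by
    intro x y hx hy hxy hsq j hj
    obtain ⟨n, hn, hnj⟩ := he (y - x) x (sub_ne_zero.2 (Ne.symm hxy)) hsq
    rcases (hmemS j).1 hj with h | h | h
    · rw [e.injective h, mul_zero, zero_add]; exact hx
    · rw [e.injective h, mul_one, sub_add_cancel]; exact hy
    · refine hback hx hy hxy ?_
      have := hL.inv hn h
      rwa [hnj, hnj, hnj, mul_zero, zero_add, mul_one, sub_add_cancel] at this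
  obtain ⟨d, hd⟩ : ∃ c, R (e 0) (e 1) c := hL.exists_third hne01
  obtain ⟨c, rfl⟩ := e.surjective d
  have hcS : c ∈ S := (hmemS c).2 (Or.inr (Or.inr hd))
  have hc01 : c ≠ 0 ∧ c ≠ 1 :=
    ⟨fun h => (hL.ne hd).2.1 (by rw [h]), fun h => (hL.ne hd).2.2 (by rw [h])⟩
  have hlt : S.card < p := by
    obtain ⟨z, hz0, hz1, hz⟩ := hL.exists_off hne01
    have : e.symm z ∉ S := by
      rw [hmemS, e.apply_symm_apply]
      rintro (h | h | h)
      exacts [hz0 h, hz1 h, hz h]
    have h' := Finset.card_lt_card (Finset.ssubset_univ_iff.2 (fun h => this (h ▸ Finset.mem_univ _)) :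
      S ⊂ Finset.univ)
    rwa [Finset.card_univ, ZMod.card] at h'
  have hs0 : (S.card : ZMod p) ≠ 0 := fun h => by
    have h' := Nat.le_of_dvd (Finset.card_pos.2 ⟨0, h0S⟩) ((ZMod.natCast_eq_zero_iff _ p).1 h)
    omega
  set z := (∑ j ∈ S, j) * (S.card : ZMod p)⁻¹ with hz
  have hzfix : ∀ {x y}, x ∈ S → y ∈ S → x ≠ y → IsSquare (y - x) → (y - x) * z + x = z := by
    intro x y hx hy hxy hsq
    have hne := sub_ne_zero.2 (Ne.symm hxy)
    set k := y - x
    have himg : S.image (fun j => k * j + x) = S := by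
      refine Finset.eq_of_subset_of_card_le (Finset.image_subset_iff.2 (hmove hx hy hxy hsq)) ?_
      rw [Finset.card_image_of_injective]
      exact fun i j h => mul_left_cancel₀ hne (add_right_cancel h)
    have hsum : k * (∑ j ∈ S, j) + (S.card : ZMod p) * x = ∑ j ∈ S, j := by
      conv_rhs => rw [← himg, Finset.sum_image fun i _ j _ h =>
        mul_left_cancel₀ hne (add_right_cancel h)]
      rw [Finset.sum_add_distrib, Finset.sum_const, ← Finset.mul_sum, nsmul_eq_mul]
    rw [hz]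
    calc k * ((∑ j ∈ S, j) * (S.card : ZMod p)⁻¹) + x
        = (k * (∑ j ∈ S, j) + (S.card : ZMod p) * x) * (S.card : ZMod p)⁻¹ := by field_simp
      _ = (∑ j ∈ S, j) * (S.card : ZMod p)⁻¹ := by rw [hsum]
  have hdir : ∀ {x y}, x ∈ S → y ∈ S → x ≠ y →
      ((y - x) * z + x = z) ∨ ((x - y) * z + y = z) := by
    intro x y hx hy hxy
    by_cases h : IsSquare (y - x)
    · exact Or.inl (hzfix hx hy hxy h)
    · refine Or.inr (hzfix hy hx hxy.symm ?_)
      have h1' := quadraticChar_neg_one_iff_not_isSquare.2 h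
      have hm := quadraticChar_neg_one_iff_not_isSquare.2 hneg
      refine (quadraticChar_one_iff_isSquare (sub_ne_zero.2 hxy)).1 ?_
      rw [show x - y = (-1) * (y - x) by ring, map_mul, h1', hm]; norm_num
  have hz0 : z ≠ 0 := fun h => by
    rcases hdir h1S hcS hc01.2.symm with e' | e' <;> rw [h] at e'
    · exact one_ne_zero (by linear_combination e')
    · exact hc01.1 (by linear_combination e')
  have hz1 : z ≠ 1 := fun h => by
    rcases hdir h0S hcS hc01.1.symm with e' | e' <;> rw [h] at e'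
    · exact hc01.2 (by linear_combination e')
    · exact zero_ne_one (α := ZMod p) (by linear_combination e')
  have hthree : ∀ y ∈ S, y = 0 ∨ y = 1 ∨ y = c := by
    intro y hy
    by_contra hcon
    push Not at hcon
    obtain ⟨y0, y1, yc⟩ := hcon
    -- at most two others are joined to `0`
    have h1 := hdir h0S h1S zero_ne_one
    have h2 := hdir h0S hcS hc01.1.symm
    have h3 := hdir h0S hy y0.symm
    have hout : ∀ {u v}, (u - 0) * z + 0 = z → (v - 0) * z + 0 = z → u = v := fun {u v} e1 e2 =>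
      mul_right_cancel₀ hz0 (by linear_combination e1 - e2)
    have hin : ∀ {u v}, (0 - u) * z + u = z → (0 - v) * z + v = z → u = v := fun {u v} e1 e2 => by
      have : (u - v) * (1 - z) = 0 := by linear_combination e1 - e2
      rcases mul_eq_zero.1 this with h | h
      · exact sub_eq_zero.1 h
      · exact absurd (sub_eq_zero.1 h).symm hz1
    rcases h1 with h1 | h1 <;> rcases h2 with h2 | h2 <;> rcases h3 with h3 | h3 <;>
      first
        | exact hc01.2 (hout h1 h2).symm
        | exact y1 (hout h1 h3).symm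
        | exact yc (hout h2 h3).symm
        | exact hc01.2 (hin h1 h2).symm
        | exact y1 (hin h1 h3).symm
        | exact yc (hin h2 h3).symm
  -- uniqueness of the third point
  have huniq : ∀ {x : ZMod p}, R (e 0) (e 1) (e x) → x = c := by
    intro x hx
    rcases hthree x ((hmemS x).2 (Or.inr (Or.inr hx))) with h | h | h
    · exact absurd (congrArg e h.symm) (hL.ne hx).2.1
    · exact absurd (congrArg e h.symm) (hL.ne hx).2.2
    · exact h
  have hform : ∀ a t x : ZMod p, a ≠ t → (R (e a) (e t) (e x) ↔ x = third c a t) := by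
    intro a t x hat
    have hne : t - a ≠ 0 := sub_ne_zero.2 (Ne.symm hat)
    unfold third
    by_cases hsq : IsSquare (t - a)
    · rw [if_pos hsq]
      obtain ⟨n, hn, hnj⟩ := he (t - a) a hne hsq
      have hbase : R (e a) (e t) (e (a + c * (t - a))) := by
        have := hL.inv hn hd
        rw [hnj, hnj, hnj, mul_zero, zero_add, mul_one, sub_add_cancel] at this
        rwa [show (t - a) * c + a = a + c * (t - a) by ring] at this
      refine ⟨fun h => ?_, fun h => h ▸ hbase⟩
      have h' := hL.inv (G.inv_mem hn) h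
      have ei : ∀ j, n⁻¹ (e ((t - a) * j + a)) = e j := fun j => by
        rw [← hnj, Equiv.Perm.inv_def, Equiv.symm_apply_apply]
      have ea : n⁻¹ (e a) = e 0 := by
        have h'' := ei 0; rwa [mul_zero, zero_add] at h''
      have et : n⁻¹ (e t) = e 1 := by
        have h'' := ei 1; rwa [mul_one, sub_add_cancel] at h''
      obtain ⟨j, hj⟩ : ∃ j, (t - a) * j + a = x :=
        ⟨(x - a) / (t - a), by rw [mul_div_cancel₀ _ hne, sub_add_cancel]⟩
      rw [ea, et, ← hj, ei] at h'
      rw [← hj, huniq h']; ring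
    · rw [if_neg hsq]
      have hsq' : IsSquare (a - t) := by
        have h1' := quadraticChar_neg_one_iff_not_isSquare.2 hsq
        have hm := quadraticChar_neg_one_iff_not_isSquare.2 hneg
        refine (quadraticChar_one_iff_isSquare (sub_ne_zero.2 hat)).1 ?_
        rw [show a - t = (-1) * (t - a) by ring, map_mul, h1', hm]; norm_num
      have hne' : a - t ≠ 0 := sub_ne_zero.2 hat
      obtain ⟨n, hn, hnj⟩ := he (a - t) t hne' hsq'
      have hbase : R (e a) (e t) (e (a + (1 - c) * (t - a))) := by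
        have := hL.inv hn hd
        rw [hnj, hnj, hnj, mul_zero, zero_add, mul_one, sub_add_cancel] at this
        rw [show (a - t) * c + t = a + (1 - c) * (t - a) by ring] at this
        exact hL.swap this
      refine ⟨fun h => ?_, fun h => h ▸ hbase⟩
      have h' := hL.inv (G.inv_mem hn) (hL.swap h)
      have ei : ∀ j, n⁻¹ (e ((a - t) * j + t)) = e j := fun j => by
        rw [← hnj, Equiv.Perm.inv_def, Equiv.symm_apply_apply]
      have et : n⁻¹ (e t) = e 0 := by
        have h'' := ei 0; rwa [mul_zero, zero_add] at h''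
      have ea : n⁻¹ (e a) = e 1 := by
        have h'' := ei 1; rwa [mul_one, sub_add_cancel] at h''
      obtain ⟨j, hj⟩ : ∃ j, (a - t) * j + t = x :=
        ⟨(x - t) / (a - t), by rw [mul_div_cancel₀ _ hne', sub_add_cancel]⟩
      rw [ea, et, ← hj, ei] at h'
      rw [← hj, huniq h']; ring
  refine ⟨c, ?_, hform⟩
  have hinv : (1 : ZMod p) = third c 0 c :=
    (hform 0 c 1 hc01.1.symm).1 (hL.rot hd)
  unfold third at hinv
  rw [sub_zero] at hinv
  by_cases hsq : IsSquare c
  · rw [if_pos hsq] at hinv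
    exfalso
    have : c = -1 := by
      have h' : (c - 1) * (c + 1) = 0 := by linear_combination -hinv
      rcases mul_eq_zero.1 h' with h | h
      · exact absurd (sub_eq_zero.1 h) hc01.2
      · exact eq_neg_of_add_eq_zero_left h
    exact hneg (this ▸ hsq)
  · rw [if_neg hsq] at hinv
    linear_combination hinv

/-- No such system. -/
theorem lines_false {G : Subgroup (Equiv.Perm α)} {R : α → α → α → Prop} (hL : Lines G R)
    (e : ZMod p ≃ α) (he : HasHalfAffine G e) (hneg : ¬ IsSquare (-1 : ZMod p)) (hp : 13 ≤ p) :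
    False := by
  -- choose the orientation
  obtain ⟨e', he', c, hc, hR, h1c⟩ : ∃ e' : ZMod p ≃ α, HasHalfAffine G e' ∧ ∃ c : ZMod p,
      c ^ 2 - c + 1 = 0 ∧ (∀ a t x : ZMod p, a ≠ t → (R (e' a) (e' t) (e' x) ↔ x = third c a t)) ∧
      ¬ IsSquare (1 + c) := by
    obtain ⟨c, hc, hR⟩ := third_of_lines hL e he hneg (by omega)
    obtain ⟨c', hc', hR'⟩ := third_of_lines hL _ he.neg hneg (by omega)
    by_cases h : IsSquare (1 + c)
    · refine ⟨_, he.neg, c', hc', hR', fun h' => ?_⟩
      have hcc : c' = 1 - c := by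
        have h01 : (0 : ZMod p) ≠ -1 := fun h => one_ne_zero (by linear_combination h)
        have h1 : third c 0 (-1) = c - 1 := by
          rw [third, sub_zero, if_neg hneg]; ring
        have h2 : c' = third c' 0 1 := by
          rw [third, sub_zero, if_pos ⟨1, by ring⟩]; ring
        have h3 : R (e (-0)) (e (-1)) (e (-c')) := (hR' 0 1 c' zero_ne_one).2 h2
        rw [neg_zero] at h3
        have := (hR 0 (-1) (-c') h01).1 h3
        rw [h1] at this
        linear_combination -this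
      have h3 : ((3 : ℕ) : ZMod p) ≠ 0 := fun h => by
        have := Nat.le_of_dvd (by norm_num) ((ZMod.natCast_eq_zero_iff 3 p).1 h); omega
      have hne : 1 + c ≠ 0 := fun h0 => h3 (by push_cast; linear_combination hc - (c - 2) * h0)
      have hne' : 1 + c' ≠ 0 := fun h0 => h3 (by push_cast; linear_combination hc' - (c' - 2) * h0)
      have hprod : IsSquare (3 : ZMod p) := by
        have : (1 + c) * (1 + c') = 3 := by rw [hcc]; linear_combination -hc
        rw [← this]; exact h.mul h'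
      have hm3 : IsSquare (-3 : ZMod p) := ⟨2 * c - 1, by linear_combination -4 * hc⟩
      refine hneg ?_
      have h3' : (3 : ZMod p) ≠ 0 := by exact_mod_cast h3
      have := hm3.mul hprod
      obtain ⟨r, hr⟩ := this
      exact ⟨r / 3, by field_simp; linear_combination hr⟩
    · exact ⟨e, he, c, hc, hR, h⟩
  refine netto_false hp hneg c hc h1c fun w hw t₀ h00 h01 h0c hfix t ht0 ht1 htc => ?_
  have h1 : R (e' 0) (e' 1) (e' c) := (hR 0 1 c zero_ne_one).2 (by
    rw [third, sub_zero, if_pos ⟨1, by ring⟩]; ring)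
  have hoff : ∀ x, x ≠ c → ¬ R (e' 0) (e' 1) (e' x) := fun x hx h => hx (by
    rw [(hR 0 1 x zero_ne_one).1 h, third, sub_zero, if_pos ⟨1, by ring⟩]; ring)
  obtain ⟨g, hg, g0, g1, gt⟩ := hL.homogeneous (e'.injective.ne zero_ne_one) (e'.injective.ne h00)
    (e'.injective.ne h01) (hoff t₀ h0c) (e'.injective.ne ht0) (e'.injective.ne ht1) (hoff t htc)
  set φ : ZMod p → ZMod p := fun j => e'.symm (g (e' j)) with hφ
  have heφ : ∀ j, e' (φ j) = g (e' j) := fun j => e'.apply_symm_apply _
  have hφ0 : φ 0 = 0 := e'.injective (by rw [heφ, g0])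
  have hφ1 : φ 1 = 1 := e'.injective (by rw [heφ, g1])
  have hφt : φ t₀ = t := e'.injective (by rw [heφ, gt])
  have hφc : φ c = c := by
    have h := hL.inv hg h1
    rw [g0, g1, ← heφ] at h
    by_contra hne
    exact hoff _ hne h
  have hcomm : ∀ a, φ a = a → ∀ s, φ (third c a s) = third c a (φ s) := by
    intro a ha s
    by_cases hs : a = s
    · subst hs
      rw [ha]
      have : third c a a = a := by simp [third]
      rw [this, ha]
    · have hne : a ≠ φ s := fun h => hs (by
        have : g (e' a) = g (e' s) := by rw [← heφ, ← heφ, ha, h]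
        exact e'.injective (g.injective this))
      refine (hR a (φ s) _ hne).1 ?_
      have := hL.inv hg ((hR a s _ hs).2 rfl)
      rw [← heφ, ← heφ, ← heφ, ha] at this
      exact this
  have := along_comm c w (φ := φ) (fun a ha => hcomm a (by
    rcases hw a ha with rfl | rfl | rfl
    exacts [hφ0, hφ1, hφc])) t₀
  rw [hfix, hφt] at this
  exact this.symm

/-- **Triple transitivity.** -/
theorem three_transitive (hα : Fintype.card α = p) (G : Subgroup (Equiv.Perm α))
    [IsPretransitive G α] (hG : ¬ Group.IsSolvable G) (e : ZMod p ≃ α) (he : HasHalfAffine G e)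
    (hneg : ¬ IsSquare (-1 : ZMod p)) {q : ℕ} (hq : q.Prime) (hq5 : 5 < q) (hpq : p = q + 2) :
    IsMultiplyPretransitive G α 3 := by
  have hqodd : Odd q := hq.odd_of_ne_two (by omega)
  have hp13 : 13 ≤ p := by
    by_contra h
    obtain ⟨k, hk⟩ := hqodd
    have h9 : p = 9 ∨ q ≠ 7 := by omega
    rcases (show q = 7 ∨ q = 9 by omega) with h' | h'
    · exact absurd (Fact.out : p.Prime) (by rw [hpq, h']; norm_num)
    · exact absurd hq (by rw [h']; norm_num)
  have h2 : ∀ {a b a' b' : α}, a ≠ b → a' ≠ b' → ∃ g ∈ G, g a = a' ∧ g b = b' :=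
    fun {a b a' b'} hab hab' => by
      obtain ⟨g, h1, h2⟩ := (is_two_pretransitive_iff (G := G) (α := α)).1
        (two_transitive_of_insoluble hα G hG) hab hab'
      exact ⟨g, g.2, h1, h2⟩
  have hne01 : e 0 ≠ e 1 := fun h => zero_ne_one (e.injective h)
  -- it is enough to move the third point
  suffices hall : ∀ c c' : α, c ≠ e 0 → c ≠ e 1 → c' ≠ e 0 → c' ≠ e 1 →
      ∃ g ∈ G, g (e 0) = e 0 ∧ g (e 1) = e 1 ∧ g c = c' by
    refine ⟨fun x y => ?_⟩
    obtain ⟨u, hu, u0, u1⟩ := h2 (x.injective.ne (show (0 : Fin 3) ≠ 1 by decide)) hne01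
    obtain ⟨v, hv, v0, v1⟩ := h2 (y.injective.ne (show (0 : Fin 3) ≠ 1 by decide)) hne01
    obtain ⟨g, hg, g0, g1, g2⟩ := hall (u (x 2)) (v (y 2))
      (u0 ▸ u.injective.ne (x.injective.ne (by decide))) (u1 ▸ u.injective.ne (x.injective.ne (by decide)))
      (v0 ▸ v.injective.ne (y.injective.ne (by decide))) (v1 ▸ v.injective.ne (y.injective.ne (by decide)))
    refine ⟨⟨v⁻¹ * g * u, G.mul_mem (G.mul_mem (G.inv_mem hv) hg) hu⟩,
      Function.Embedding.ext fun i => ?_⟩
    rw [Function.Embedding.smul_apply]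
    show v⁻¹ (g (u (x i))) = y i
    rw [Equiv.Perm.inv_def, Equiv.symm_apply_eq]
    fin_cases i
    · show g (u (x 0)) = v (y 0); rw [u0, g0, v0]
    · show g (u (x 1)) = v (y 1); rw [u1, g1, v1]
    · exact g2
  by_contra hcon
  push Not at hcon
  obtain ⟨c₁, c₂, h10, h11, h20, h21, hsep⟩ := hcon
  let R : α → α → α → Prop := fun a b c => ∃ g ∈ G, g (e 0) = a ∧ g (e 1) = b ∧ g c₁ = c
  let R' : α → α → α → Prop := fun a b c => ∃ g ∈ G, g (e 0) = a ∧ g (e 1) = b ∧ g c₂ = c
  have mkT : ∀ d : α, d ≠ e 0 → d ≠ e 1 →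
      TripleOrbit G (fun a b c => ∃ g ∈ G, g (e 0) = a ∧ g (e 1) = b ∧ g d = c) := by
    intro d hd0 hd1
    refine ⟨?_, ?_, ?_⟩
    · rintro a b c ⟨g, -, rfl, rfl, rfl⟩
      exact ⟨g.injective.ne hne01, g.injective.ne hd0.symm, g.injective.ne hd1.symm⟩
    · rintro h hh a b c ⟨g, hg, rfl, rfl, rfl⟩
      exact ⟨h * g, G.mul_mem hh hg, rfl, rfl, rfl⟩
    · rintro a b c a' b' c' ⟨g, hg, rfl, rfl, rfl⟩ ⟨g', hg', rfl, rfl, rfl⟩
      exact ⟨g' * g⁻¹, G.mul_mem hg' (G.inv_mem hg), by simp, by simp, by simp⟩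
  have hR : TripleOrbit G R := mkT c₁ h10 h11
  have hR' : TripleOrbit G R' := mkT c₂ h20 h21
  have hexcl : ∀ {a b c}, R a b c → ¬ R' a b c := by
    rintro a b c ⟨g, hg, rfl, rfl, rfl⟩ ⟨g', hg', h0, h1, h2'⟩
    refine hsep (g'⁻¹ * g) (G.mul_mem (G.inv_mem hg') hg) ?_ ?_ ?_ <;>
      rw [Equiv.Perm.mul_apply, Equiv.Perm.inv_def, Equiv.symm_apply_eq]
    exacts [h0.symm, h1.symm, h2'.symm]
  have hcover : ∀ {a b c}, a ≠ b → a ≠ c → b ≠ c → R a b c ∨ R' a b c := by
    intro a b c hab hac hbc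
    obtain ⟨u, hu, rfl, rfl⟩ := h2 hne01 hab
    obtain ⟨d, rfl⟩ := u.surjective c
    obtain ⟨g, hg, g0, g1, hcases⟩ := two_orbits hα G hG e he hneg ⟨h10, h11⟩ ⟨h20, h21⟩
      (c₃ := d) ⟨fun h => hac (by rw [h]), fun h => hbc (by rw [h])⟩
    rcases hcases with h | h | h
    · exact absurd h (hsep g hg g0 g1)
    · exact Or.inl ⟨u * g, G.mul_mem hu hg, by simp [g0], by simp [g1], by simp [h]⟩
    · exact Or.inr ⟨u * g, G.mul_mem hu hg, by simp [g0], by simp [g1], by simp [h]⟩
  have hcard : Fintype.card α - 2 = q := by omega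
  rcases exists_lines hR hR' h2 hcover hexcl hne01 ⟨c₁, 1, G.one_mem, rfl, rfl, rfl⟩
      ⟨c₂, 1, G.one_mem, rfl, rfl, rfl⟩ (hcard ▸ hq) (hcard ▸ hqodd) with hL | hL
  · exact lines_false hL e he hneg hp13
  · exact lines_false hL e he hneg hp13

end CfsgLib.TwinPrime
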